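import Groth.Agent.Lib.EtSite.Push
import Groth.Agent.Lib.EtJ.ExtAdj
import Groth.Agent.Lib.EtSite.Basic
import Mathlib.CategoryTheory.Abelian.GrothendieckCategory.EnoughInjectives
import Groth.Prelude.Def_EtCore

/-!
# Direct images along integral morphisms and cohomology
-/

set_option autoImplicit false

universe u

open CategoryTheory CategoryTheory.Limits AlgebraicGeometry Opposite CategoryTheory.Abelian

namespace Groth.Agent.H61.FieldCoh.PushInt

variable {X Y : Scheme.{u}} (f : X ⟶ Y) [IsIntegralHom f]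

/-- `H^n(Y, f_* F) ≅ H^n(X, F)` for an integral morphism `f`. -/
theorem nonempty_Hequiv (F : EtCoh.Ab X) (n : ℕ) :
    Nonempty (EtCoh.H Y ((EtCoh.push f).obj F) n ≃+ EtCoh.H X F n) := by
  haveI := Groth.Agent.Lib.EtSite.Push.preservesHomology_push f
  haveI : PreservesFiniteLimits (EtCoh.push f) :=
    ((EtCoh.pullPushAdj f).rightAdjoint_preservesLimits : PreservesLimitsOfSize.{0, 0} (EtCoh.push f)).preservesFiniteLimits
  haveI : PreservesFiniteColimits (EtCoh.push f) :=
    (Functor.preservesFiniteColimits_iff_forall_exact_map_and_epi _).2 fun S hS =>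
      ⟨hS.exact.map _, by
        have := hS.epi_g
        have := Groth.Agent.Lib.EtSite.Push.preservesEpimorphisms_push f
        infer_instance⟩
  haveI : (EtCoh.push f).PreservesInjectiveObjects :=
    ⟨fun {I} hI => Injective.injective_of_adjoint (EtCoh.pullPushAdj f) I⟩
  let e := (Groth.Agent.Lib.EtJ.ExtAdj.adjExtEquiv (EtCoh.push f) (EtCoh.pullPushAdj f)
    (EtCoh.const Y ℤ) F n)
  let c := EtCore.pullConst f ℤ
  refine ⟨e.symm.trans
    { toFun := fun x => (Ext.mk₀ c.inv).comp x (zero_add n)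
      invFun := fun x => (Ext.mk₀ c.hom).comp x (zero_add n)
      left_inv := fun x => ?_
      right_inv := fun x => ?_
      map_add' := fun x y => Ext.comp_add _ _ _ _ }⟩
  · exact (Ext.comp_assoc_of_second_deg_zero _ _ _ _).symm.trans (by
      rw [Ext.mk₀_comp_mk₀, c.hom_inv_id, Ext.mk₀_id_comp])
  · exact (Ext.comp_assoc_of_second_deg_zero _ _ _ _).symm.trans (by
      rw [Ext.mk₀_comp_mk₀, c.inv_hom_id, Ext.mk₀_id_comp])

/-- Sections of a torsion sheaf over a quasi-compact object are torsion. -/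
theorem isOfFinAddOrder_of_compact {F : EtCoh.Ab X} (hF : EtCoh.IsTorsion F) (W : X.Etale) [CompactSpace W.left]
    (s : EtCoh.sect F W) : IsOfFinAddOrder s := by
  classical
  choose V g hv hfin using fun x : W.left => hF W s x
  haveI : ∀ x, Etale (g x).left := fun x => by
    haveI : Etale W.hom := W.prop
    haveI : Etale ((g x).left ≫ W.hom) := by
      have h : (g x).left ≫ W.hom = (V x).hom := MorphismProperty.Over.w (g x)
      rw [h]
      exact (V x).prop
    exact EtCoh.etaleMP.of_postcomp (W' := EtCoh.etaleMP) (g x).left W.hom W.prop ‹_›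
  obtain ⟨t, ht⟩ := isCompact_univ.elim_finite_subcover (fun x : W.left => Set.range (g x).left.base)
    (fun x => (g x).left.isOpenMap.isOpen_range) (fun x _ => Set.mem_iUnion.2 ⟨x, (hv x).choose,
      (hv x).choose_spec⟩)
  let n := ∏ x ∈ t, addOrderOf (F.obj.map (g x).op s)
  refine isOfFinAddOrder_iff_nsmul_eq_zero.2
    ⟨n, Finset.prod_pos fun x _ => (hfin x).addOrderOf_pos, ?_⟩
  have hQ : Presieve.IsSheaf X.smallEtaleTopology (F.obj ⋙ forget AddCommGrpCat.{u + 1}) :=
    (isSheaf_iff_isSheaf_of_type _ _).1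
      ((sheafCompose X.smallEtaleTopology (forget AddCommGrpCat.{u + 1})).obj F).property
  have hcov : ∀ u : W.left, ∃ (x : t) (v : (V x.1).left), (g x.1).left.base v = u := fun u => by
    obtain ⟨x, hx, v, hv⟩ := Set.mem_iUnion₂.1 (ht (Set.mem_univ u))
    exact ⟨⟨x, hx⟩, v, hv⟩
  refine ((hQ _ (Groth.Agent.Lib.EtSite.Basic.ofArrows_mem (fun x : t => V x.1) (fun x => g x.1)
    hcov)).isSeparatedFor).ext fun Z h hh => ?_
  obtain ⟨⟨x, hx⟩, a, rfl⟩ := (Sieve.mem_ofArrows_iff _ _ _).1 hh
  show F.obj.map (a ≫ g x).op (n • s) = F.obj.map (a ≫ g x).op 0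
  obtain ⟨c, hc⟩ := Finset.dvd_prod_of_mem (fun x => addOrderOf (F.obj.map (g x).op s)) hx
  rw [map_zero, op_comp, Functor.map_comp, ConcreteCategory.comp_apply, map_nsmul,
    show n = _ from hc, mul_nsmul, addOrderOf_nsmul_eq_zero, smul_zero, map_zero]

/-- Direct images of torsion sheaves along integral morphisms are torsion. -/
theorem isTorsion_push {F : EtCoh.Ab X} (hF : EtCoh.IsTorsion F) :
    EtCoh.IsTorsion ((EtCoh.push f).obj F) := by
  intro V s y
  obtain ⟨_, ⟨W, (hW : IsAffineOpen W), rfl⟩, hyW, -⟩ :=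
    V.left.isBasis_affineOpens.exists_subset_of_mem_open (Set.mem_univ y) isOpen_univ
  haveI : Etale V.hom := V.prop
  let W' : Scheme.Opens V.left := W
  let V' : Y.Etale := MorphismProperty.Over.mk ⊤ (W'.ι ≫ V.hom) (inferInstanceAs (Etale (W'.ι ≫ V.hom)))
  refine ⟨V', MorphismProperty.Over.homMk W'.ι rfl, ⟨(⟨y, hyW⟩ : W'), rfl⟩, ?_⟩
  haveI : IsAffine V'.left := hW
  let v' : V'.left ⟶ Y := V'.hom
  haveI : IsIntegralHom (pullback.fst v' f) := MorphismProperty.pullback_fst _ _ ‹IsIntegralHom f›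
  haveI : IsAffine (pullback v' f) := isAffine_of_isAffineHom (pullback.fst v' f)
  haveI : CompactSpace ((EtCoh.bc f).obj V').left := inferInstanceAs (CompactSpace ↥(pullback v' f))
  exact isOfFinAddOrder_of_compact hF ((EtCoh.bc f).obj V') _

end Groth.Agent.H61.FieldCoh.PushInt
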