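import Groth.Agent.H61.FieldCoh.Fields
import Groth.Agent.H61.FieldCoh.PushInt
import Groth.Agent.Lib.EtJ.ExtNat

/-!
# The effacing embedding `F ⟶ j_* j⁻¹ F` on a field

* `P`, `η`: restriction followed by direct image, and its unit; `η_app` is restriction of sections.
* `mono_η`, `P_exact`: exactness for `j = Spec L → Spec K` with `L/K` finite separable.
* `comp_η_eq_zero`: a class dying on `L` dies in `P F`.
* `mono_map_cokernel`: `coker η` preserves monomorphisms.
-/

set_option autoImplicit false

universe u w v u₁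

open CategoryTheory CategoryTheory.Limits CategoryTheory.Abelian AlgebraicGeometry Opposite

namespace Groth.Agent.H61.FieldCoh

open Groth.Agent.Lib.EtJ

theorem mapExact_id {C : Type u₁} [Category.{v} C] [Abelian C] [HasExt.{w} C] [EnoughInjectives C]
    [(𝟭 C).Additive] {X Y : C} {n : ℕ} (e : Ext.{w} X Y n) : e.mapExactFunctor (𝟭 C) = e := by
  induction n generalizing X Y with
  | zero =>
    obtain ⟨f, rfl⟩ := (Ext.mk₀_bijective X Y).2 e
    simp [Ext.mapExactFunctor_mk₀]
  | succ n ih =>
    obtain ⟨S, hS, i, e', rfl⟩ := ExtNat.exists_eq_comp_extClass e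
    have h : hS.extClass.mapExactFunctor (𝟭 C) = hS.extClass := Ext.mapExactFunctor_extClass (𝟭 C) hS
    simp only [Ext.mapExactFunctor_comp, Ext.mapExactFunctor_mk₀, ih, h]
    rfl

section

variable {U X : Scheme.{u}} (j : U ⟶ X) [Etale j]

/-- Restriction followed by direct image. -/
noncomputable def P : EtCoh.Ab X ⥤ EtCoh.Ab X := EtShriek.restrAlong j ⋙ EtCoh.push j

/-- Its unit. -/
noncomputable def η : 𝟭 (EtCoh.Ab X) ⟶ P j := (Basic.restrPushAdj j).unit

/-- `compEtale (bc V) → V`. -/
noncomputable def proj (V : X.Etale) : (EtShriek.compEtale j).obj ((EtCoh.bc j).obj V) ⟶ V :=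
  (Basic.compEtaleAdj j).counit.app V

theorem η_app (G : EtCoh.Ab X) (V : X.Etale) (s : EtCoh.sect G V) :
    ((η j).app G).hom.app (op V) s = G.obj.map (proj j V).op s := by
  have h3 : ((Basic.restrPushAdj j).unit.app G).hom.app (op V) =
      G.obj.map ((Basic.compEtaleAdj j).counit.app V).op := by
    simp [Basic.restrPushAdj]
  exact ConcreteCategory.congr_hom h3 s

theorem P_map_app {G H : EtCoh.Ab X} (f : G ⟶ H) (V : X.Etale)
    (s : EtCoh.sect G ((EtShriek.compEtale j).obj ((EtCoh.bc j).obj V))) :
    ((P j).map f).hom.app (op V) s =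
      f.hom.app (op ((EtShriek.compEtale j).obj ((EtCoh.bc j).obj V))) s := rfl

instance P_additive : (P j).Additive :=
  haveI : (EtCoh.push j).Additive := (EtCoh.pullPushAdj j).right_adjoint_additive
  inferInstanceAs ((EtShriek.restrAlong j ⋙ EtCoh.push j).Additive)

variable [IsIntegralHom j]

instance P_preservesFiniteLimits : PreservesFiniteLimits (P j) :=
  haveI : PreservesFiniteLimits (EtCoh.push j) :=
    ((EtCoh.pullPushAdj j).rightAdjoint_preservesLimits :
      PreservesLimitsOfSize.{0, 0} (EtCoh.push j)).preservesFiniteLimits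
  comp_preservesFiniteLimits _ _

theorem preservesFiniteColimits_push : PreservesFiniteColimits (EtCoh.push j) := by
  haveI := Groth.Agent.Lib.EtSite.Push.preservesHomology_push j
  haveI : (EtCoh.push j).Additive := (EtCoh.pullPushAdj j).right_adjoint_additive
  exact (Functor.preservesFiniteColimits_iff_forall_exact_map_and_epi _).2 fun S hS =>
    ⟨hS.exact.map _, by
      have := hS.epi_g
      have := Groth.Agent.Lib.EtSite.Push.preservesEpimorphisms_push j
      infer_instance⟩

instance P_preservesFiniteColimits : PreservesFiniteColimits (P j) :=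
  haveI := preservesFiniteColimits_push j
  comp_preservesFiniteColimits _ _

/-- A class dying on `U` dies in `P G`. -/
theorem comp_η_eq_zero {G : EtCoh.Ab X} {n : ℕ} (e : EtCoh.H X G n)
    (h : (Ext.mk₀ (aug j)).comp e (zero_add n) = 0) : e.comp (Ext.mk₀ ((η j).app G)) (add_zero n) = 0 := by
  have h0 : (Ext.mk₀ (EtCore.pullConst j ℤ).inv).comp (e.mapExactFunctor (EtCoh.pull j)) (zero_add n) = 0 :=
    (Hpull_eq_zero_iff j G n e).2 h
  have h1 : e.mapExactFunctor (EtCoh.pull j) = 0 := by
    have h' := congrArg (fun t => (Ext.mk₀ (EtCore.pullConst j ℤ).hom).comp t (zero_add n)) h0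
    rw [← Ext.comp_assoc_of_second_deg_zero, Ext.mk₀_comp_mk₀, Iso.hom_inv_id, Ext.mk₀_id_comp,
      Ext.comp_zero] at h'
    exact h'
  have h2 : e.mapExactFunctor (EtShriek.restrAlong j) = 0 := by
    have h' := ExtNat.mapExact_natural (EtCoh.pull j) (EtShriek.restrAlong j) (Basic.pullIsoRestr j).hom e
    rw [h1, Ext.zero_comp] at h'
    have h'' := congrArg
      (fun t => (Ext.mk₀ ((Basic.pullIsoRestr j).inv.app (EtCoh.const X ℤ))).comp t (zero_add n)) h'
    rw [← Ext.comp_assoc_of_second_deg_zero, Ext.mk₀_comp_mk₀, Iso.inv_hom_id_app, Ext.mk₀_id_comp,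
      Ext.comp_zero] at h''
    exact h''.symm
  haveI := preservesFiniteColimits_push j
  haveI : (EtCoh.push j).Additive := (EtCoh.pullPushAdj j).right_adjoint_additive
  haveI : PreservesFiniteLimits (EtCoh.push j) :=
    ((EtCoh.pullPushAdj j).rightAdjoint_preservesLimits :
      PreservesLimitsOfSize.{0, 0} (EtCoh.push j)).preservesFiniteLimits
  haveI : (EtShriek.restrAlong j ⋙ EtCoh.push j).Additive := P_additive j
  haveI : PreservesFiniteLimits (EtShriek.restrAlong j ⋙ EtCoh.push j) := P_preservesFiniteLimits j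
  haveI : PreservesFiniteColimits (EtShriek.restrAlong j ⋙ EtCoh.push j) := P_preservesFiniteColimits j
  have h3 := ExtNat.mapExact_natural (𝟭 (EtCoh.Ab X)) (EtShriek.restrAlong j ⋙ EtCoh.push j) (η j) e
  rw [ExtNat.mapExact_comp (EtShriek.restrAlong j) (EtCoh.push j) e, h2, Ext.mapExactFunctor_zero,
    Ext.comp_zero, mapExact_id] at h3
  exact h3

end

section Field

variable (K : Type u) [Field K] (L : Type u) [Field L] [Algebra K L] [FiniteDimensional K L] [Algebra.Etale K L]

instance isIntegralHom_jF : IsIntegralHom (jF K L) :=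
  (IsIntegralHom.SpecMap_iff (φ := CommRingCat.ofHom (algebraMap K L))).2
    fun x => Algebra.IsIntegral.isIntegral (R := K) x

theorem surjective_proj (V : (S K).Etale) (v : V.left) :
    ∃ w, (proj (jF K L) V).left.base w = v := by
  obtain ⟨z, hz, -⟩ := Scheme.Pullback.exists_preimage_pullback (f := V.hom) (g := jF K L) v
    (⟨⊥, Ideal.isPrime_bot⟩ : PrimeSpectrum L) (Subsingleton.elim (α := PrimeSpectrum K) _ _)
  refine ⟨z, ?_⟩
  have : (proj (jF K L) V).left = (pullback.fst V.hom (jF K L) : pullback V.hom (jF K L) ⟶ V.left) := by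
    simp [proj, Basic.compEtaleAdj, MorphismProperty.Over.mapPullbackAdj]
  rw [this]
  exact hz

theorem mono_η (G : EtCoh.Ab (S K)) : Mono ((η (jF K L)).app G) := by
  refine Preadditive.mono_of_cancel_zero _ fun {Z} a ha => hom_ext_fields a 0 fun M _ _ _ _ _ s => ?_
  refine sections_ext G (fun _ : Unit => (EtShriek.compEtale (jF K L)).obj ((EtCoh.bc (jF K L)).obj (O K M)))
    (fun _ => proj (jF K L) (O K M))
    (fun v => ⟨(), surjective_proj K L (O K M) v⟩) _ _ fun _ => ?_
  rw [← η_app, ← η_app]
  refine (ConcreteCategory.congr_hom (congrArg (fun m => m.hom.app (op (O K M))) ha) s).trans ?_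
  exact (map_zero (((η (jF K L)).app G).hom.app (op (O K M))).hom).symm

/-- `coker η` preserves monomorphisms. -/
theorem mono_map_cokernel {G' G : EtCoh.Ab (S K)} (ι : G' ⟶ G) [Mono ι] :
    Mono (cokernel.map ((η (jF K L)).app G') ((η (jF K L)).app G) ι ((P (jF K L)).map ι)
      ((η (jF K L)).naturality ι).symm) := by
  refine Preadditive.mono_of_cancel_zero _ fun {A} a ha => ?_
  obtain ⟨A', e, he, r, hr⟩ := surjective_up_to_refinements_of_epi
    (cokernel.π ((η (jF K L)).app G')) a
  have h1 : (r ≫ (P (jF K L)).map ι) ≫ cokernel.π ((η (jF K L)).app G) = 0 := by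
    rw [Category.assoc, ← cokernel.π_desc ((η (jF K L)).app G')
      ((P (jF K L)).map ι ≫ cokernel.π ((η (jF K L)).app G))
      (by rw [← Category.assoc, ← (η (jF K L)).naturality, Functor.id_map, Category.assoc,
            cokernel.condition, comp_zero]), ← Category.assoc, ← hr, Category.assoc]
    exact (congrArg (e ≫ ·) ha).trans comp_zero
  haveI := mono_η K L G
  let C := ShortComplex.mk ((η (jF K L)).app G) (cokernel.π _) (cokernel.condition _)
  have hC : C.Exact := ShortComplex.exact_of_g_is_cokernel _ (cokernelIsCokernel _)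
  haveI : Mono C.f := mono_η K L G
  let f : A' ⟶ G := hC.lift (r ≫ (P (jF K L)).map ι) h1
  have hf : f ≫ (η (jF K L)).app G = r ≫ (P (jF K L)).map ι := hC.lift_f _ h1
  haveI := mono_η K L (cokernel ι)
  have hq : f ≫ cokernel.π ι = 0 := by
    rw [← cancel_mono ((η (jF K L)).app (cokernel ι)), zero_comp, Category.assoc]
    refine (congrArg (f ≫ ·) ((η (jF K L)).naturality (cokernel.π ι))).trans ?_
    rw [← Category.assoc, hf, Category.assoc, ← Functor.map_comp, cokernel.condition, Functor.map_zero,
      comp_zero]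
  let D := ShortComplex.mk ι (cokernel.π ι) (cokernel.condition _)
  have hD : D.Exact := ShortComplex.exact_of_g_is_cokernel _ (cokernelIsCokernel _)
  haveI : Mono D.f := ‹Mono ι›
  let g : A' ⟶ G' := hD.lift f hq
  have hg : g ≫ ι = f := hD.lift_f _ hq
  have hrg : g ≫ (η (jF K L)).app G' = r := by
    rw [← cancel_mono ((P (jF K L)).map ι), ← hf, ← hg, Category.assoc, Category.assoc]
    exact congrArg (g ≫ ·) ((η (jF K L)).naturality ι).symm
  haveI := he
  rw [← cancel_epi e, comp_zero, hr, ← hrg, Category.assoc, cokernel.condition, comp_zero]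

end Field

end Groth.Agent.H61.FieldCoh
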