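import Groth.Agent.H61.FieldCoh.Fin
import Groth.Agent.H61.FieldCoh.Kill

/-!
# Classes with torsion coefficients come from finite sheaves

`exists_fin`: every class in `H^q(K, F)`, `F` torsion, is the image of a class of a finite subsheaf.
-/

set_option autoImplicit false

universe u

open CategoryTheory CategoryTheory.Limits CategoryTheory.Abelian AlgebraicGeometry Opposite

namespace Groth.Agent.H61.FieldCoh

variable {K : Type u} [Field K]

theorem isTorsion_restr {U X : Scheme.{u}} (j : U ⟶ X) [Etale j] {F : EtCoh.Ab X} (hF : EtCoh.IsTorsion F) :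
    EtCoh.IsTorsion ((EtShriek.restrAlong j).obj F) := by
  intro W s x
  obtain ⟨V, g, ⟨v, hv⟩, hfin⟩ := hF ((EtShriek.compEtale j).obj W) s x
  let W' : U.Etale := MorphismProperty.Over.mk ⊤ (g.left ≫ W.hom)
    (EtCoh.etaleMP.of_postcomp (W' := EtCoh.etaleMP) (g.left ≫ W.hom) j ‹Etale j› (by
      have e' : g.left ≫ W.hom ≫ j = V.hom := MorphismProperty.Over.w g
      rw [Category.assoc, e']; exact V.prop))
  let g' : W' ⟶ W := MorphismProperty.Over.homMk g.left rfl
  refine ⟨W', g', ⟨v, hv⟩, ?_⟩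
  let k : (EtShriek.compEtale j).obj W' ⟶ V :=
    MorphismProperty.Over.homMk (𝟙 V.left) (by
      refine (Category.id_comp _).trans ?_
      exact (MorphismProperty.Over.w g).symm.trans (Category.assoc _ _ _).symm)
  have hk : k ≫ g = (EtShriek.compEtale j).map g' := MorphismProperty.Over.Hom.ext (Category.id_comp _)
  show IsOfFinAddOrder (F.obj.map ((EtShriek.compEtale j).map g').op s)
  rw [← hk, op_comp, Functor.map_comp, ConcreteCategory.comp_apply]
  exact (F.obj.map k.op).hom.isOfFinAddOrder hfin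

/-- Quotients of torsion sheaves are torsion. -/
theorem isTorsion_of_epi {G H : EtCoh.Ab (S K)} (f : G ⟶ H) [Epi f] (hG : EtCoh.IsTorsion G) :
    EtCoh.IsTorsion H := by
  intro U c x
  obtain ⟨M, _, _, _, _, _, a, w, hw⟩ := exists_field_point' U x
  obtain ⟨M', _, _, _, _, _, φ, r, hr⟩ := exists_lift_fields f (H.obj.map a.op c)
  refine ⟨O K M', homO φ ≫ a, ⟨(⟨⊥, Ideal.isPrime_bot⟩ : PrimeSpectrum M'), ?_⟩, ?_⟩
  · refine Eq.trans ?_ hw
    exact congrArg a.left.base (Subsingleton.elim (α := PrimeSpectrum M) _ _)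
  · rw [← map_map, ← hr]
    exact (f.hom.app (op (O K M'))).hom.isOfFinAddOrder (isOfFinAddOrder_sect hG r)

variable (L : Type u) [Field L] [Algebra K L] [FiniteDimensional K L] [Algebra.Etale K L]

theorem isTorsion_P {F : EtCoh.Ab (S K)} (hF : EtCoh.IsTorsion F) :
    EtCoh.IsTorsion ((P (jF K L)).obj F) :=
  PushInt.isTorsion_push (jF K L) (isTorsion_restr (jF K L) hF)

/-- The points of `O N ×_K L`. -/
theorem exists_points [IsGalois K L] {N : Type u} [Field N] [Algebra K N] [Algebra.Etale K N]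
    (ψ : L →ₐ[K] N) :
    ∃ b : (L ≃ₐ[K] L) → (O K N ⟶ (EtShriek.compEtale (jF K L)).obj ((EtCoh.bc (jF K L)).obj (O K N))),
      ∀ z : ((EtShriek.compEtale (jF K L)).obj ((EtCoh.bc (jF K L)).obj (O K N))).left,
        ∃ σ, ∃ p, (b σ).left.base p = z := by
  let W := (EtShriek.compEtale (jF K L)).obj ((EtCoh.bc (jF K L)).obj (O K N))
  let fN : (O K N).left ⟶ S K := (O K N).hom
  have hw : ∀ σ : L ≃ₐ[K] L, 𝟙 (O K N).left ≫ fN =
      Spec.map (CommRingCat.ofHom (ψ.comp σ.toAlgHom).toRingHom) ≫ jF K L := fun σ => by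
    show 𝟙 (Spec (CommRingCat.of N)) ≫ 𝟙 _ ≫ jF K N = _
    rw [Category.id_comp, Category.id_comp, ← Spec.map_comp, ← CommRingCat.ofHom_comp]
    erw [(ψ.comp σ.toAlgHom).comp_algebraMap]
  refine ⟨fun σ => MorphismProperty.Over.homMk (pullback.lift (𝟙 _) _ (hw σ)) ?_, fun z => ?_⟩
  · show pullback.lift (𝟙 _) _ (hw σ) ≫ pullback.snd fN (jF K L) ≫ jF K L = fN
    refine ((Category.assoc _ _ _).symm.trans (congrArg (· ≫ jF K L) (pullback.lift_snd _ _ _))).trans ?_
    exact (hw σ).symm.trans (Category.id_comp fN)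
  · obtain ⟨M, _, _, _, _, _, a, p, hp⟩ := exists_field_point' W z
    let al : Spec (CommRingCat.of M) ⟶ pullback fN (jF K L) := a.left
    have hal : al ≫ pullback.snd fN (jF K L) ≫ jF K L = jF K M := by
      have h1 : al ≫ pullback.snd fN (jF K L) ≫ jF K L = 𝟙 _ ≫ jF K M := MorphismProperty.Over.w a
      rw [h1, Category.id_comp]
    let q : O K M ⟶ O K N := MorphismProperty.Over.homMk (al ≫ pullback.fst fN (jF K L)) (by
      show (al ≫ pullback.fst fN (jF K L)) ≫ fN = 𝟙 _ ≫ jF K M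
      rw [Category.assoc, pullback.condition, hal, Category.id_comp])
    let r : O K M ⟶ O K L := MorphismProperty.Over.homMk (al ≫ pullback.snd fN (jF K L)) (by
      show (al ≫ pullback.snd fN (jF K L)) ≫ 𝟙 _ ≫ jF K L = 𝟙 _ ≫ jF K M
      rw [Category.id_comp, Category.id_comp, Category.assoc, hal])
    obtain ⟨θ, hθ⟩ := exists_homO q
    obtain ⟨κ, hκ⟩ := exists_homO r
    obtain ⟨σ, hσ⟩ := exists_aut (θ.comp ψ) κ
    refine ⟨σ, q.left.base p, Eq.trans ?_ hp⟩
    have e1 : q.left ≫ pullback.lift (𝟙 _) _ (hw σ) = al := by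
      refine pullback.hom_ext ?_ ?_
      · rw [Category.assoc, pullback.lift_fst, Category.comp_id]
        rfl
      · rw [Category.assoc, pullback.lift_snd]
        refine Eq.trans ?_ (congrArg (fun m => m.left) hκ)
        rw [← hθ]
        show Spec.map (CommRingCat.ofHom θ.toRingHom) ≫ Spec.map (CommRingCat.ofHom (ψ.comp σ.toAlgHom).toRingHom) =
          Spec.map (CommRingCat.ofHom κ.toRingHom)
        rw [← Spec.map_comp, ← CommRingCat.ofHom_comp]
        congr 2
        exact RingHom.ext fun y => hσ y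
    exact (Scheme.Hom.comp_apply _ _ p).symm.trans (congrArg (fun m => m.base p) e1)

omit [FiniteDimensional K L] [Algebra.Etale K L] in
/-- Two embeddings of a Galois extension into a bigger one differ by an automorphism of the latter. -/
theorem exists_aut_right [IsGalois K L] {N : Type u} [Field N] [Algebra K N] [Normal K N]
    (e φ : L →ₐ[K] N) : ∃ τ : N ≃ₐ[K] N, τ.toAlgHom.comp e = φ := by
  obtain ⟨σ, hσ⟩ := exists_aut φ e
  let : Algebra L N := φ.toRingHom.toAlgebra
  have : IsScalarTower K L N := IsScalarTower.of_algebraMap_eq fun x => (φ.commutes x).symm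
  refine ⟨(σ.liftNormal N).symm, AlgHom.ext fun y => ?_⟩
  have h : σ.liftNormal N (φ y) = φ (σ y) := σ.liftNormal_commutes N y
  show (σ.liftNormal N).symm (e y) = φ y
  rw [← hσ y, ← h, AlgEquiv.symm_apply_apply]

variable (K) in
/-- The conclusion of `exists_fin`. -/
def HasFin (q : ℕ) (F : EtCoh.Ab (S K)) (x : EtCoh.H (S K) F q) : Prop :=
  ∃ (N : Type u) (_ : Field N) (_ : Algebra K N) (_ : FiniteDimensional K N) (_ : IsGalois K N)
    (_ : Algebra.Etale K N) (G : EtCoh.Ab (S K)) (ι : G ⟶ F),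
    Mono ι ∧ Fin N G ∧ ∃ x' : EtCoh.H (S K) G q, x'.comp (Ext.mk₀ ι) (add_zero q) = x

theorem hasFin_zero {F : EtCoh.Ab (S K)} (hF : EtCoh.IsTorsion F) (x : EtCoh.H (S K) F 0) : HasFin K 0 F x := by
  obtain ⟨φ, rfl⟩ := (Ext.mk₀_bijective _ _).2 x
  haveI := etale_of_finite K K
  let s := Groth.Agent.Lib.EtJ.PullSec.elem (S K) F φ
  let t : EtCoh.sect F (O K K) := F.obj.map ((EtCore.topIsTerminal (S K)).from (O K K)).op s
  obtain ⟨T, hT, hTf, hst⟩ := exists_stable hF (Set.finite_singleton t)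
  haveI := hTf
  obtain ⟨r, hr⟩ := exists_subι (F := F) (T := T) (s := s) (fun M _ _ _ _ _ e a => ⟨t, hT rfl, by
    rw [map_map, (EtCore.topIsTerminal (S K)).hom_ext a (homO e ≫ (EtCore.topIsTerminal (S K)).from (O K K))]⟩)
  refine ⟨K, inferInstance, inferInstance, inferInstance, inferInstance, inferInstance, sub F T, subι F T,
    inferInstance, fin_sub hst, Ext.mk₀ ((Groth.Agent.Lib.EtJ.PullSec.elem (S K) _).symm r), ?_⟩
  rw [Ext.mk₀_comp_mk₀]
  refine congrArg Ext.mk₀ ((Groth.Agent.Lib.EtJ.PullSec.elem (S K) F).injective ?_)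
  rw [Groth.Agent.Lib.EtJ.PullSec.elem_comp, AddEquiv.apply_symm_apply]
  exact hr

/-- Two extensions lie in a Galois one. -/
theorem exists_common (A B : Type u) [Field A] [Algebra K A] [FiniteDimensional K A] [Algebra.IsSeparable K A]
    [Field B] [Algebra K B] [FiniteDimensional K B] [Algebra.IsSeparable K B] :
    ∃ (N : Type u) (_ : Field N) (_ : Algebra K N) (_ : FiniteDimensional K N) (_ : IsGalois K N)
      (_ : Algebra.Etale K N), Nonempty (A →ₐ[K] N) ∧ Nonempty (B →ₐ[K] N) := by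
  let E : Bool → Type u := fun b => match b with | true => A | false => B
  letI : ∀ b, Field (E b) := fun b => match b with | true => ‹Field A› | false => ‹Field B›
  letI : ∀ b, Algebra K (E b) := fun b => match b with | true => ‹Algebra K A› | false => ‹Algebra K B›
  haveI : ∀ b, FiniteDimensional K (E b) := fun b => match b with
    | true => inferInstanceAs (FiniteDimensional K A) | false => inferInstanceAs (FiniteDimensional K B)
  haveI : ∀ b, Algebra.IsSeparable K (E b) := fun b => match b with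
    | true => inferInstanceAs (Algebra.IsSeparable K A) | false => inferInstanceAs (Algebra.IsSeparable K B)
  obtain ⟨N, h₁, h₂, h₃, h₄, h₅, h⟩ := exists_galois_receiving (K := K) E
  exact ⟨N, h₁, h₂, h₃, h₄, h₅, h true, h false⟩

/-- Sections of an epimorphism's target over a Galois extension lift to a common bigger one. -/
theorem exists_lifts {G H : EtCoh.Ab (S K)} (f : G ⟶ H) [Epi f] (N₁ : Type u) [Field N₁] [Algebra K N₁]
    [FiniteDimensional K N₁] [IsGalois K N₁] [Algebra.Etale K N₁] {ι : Type (u + 1)} [Finite ι] [Nonempty ι]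
    (c : ι → EtCoh.sect H (O K N₁)) (L : Type u) [Field L] [Algebra K L] [FiniteDimensional K L]
    [Algebra.IsSeparable K L] :
    ∃ (N : Type u) (_ : Field N) (_ : Algebra K N) (_ : FiniteDimensional K N) (_ : IsGalois K N)
      (_ : Algebra.Etale K N) (_ : L →ₐ[K] N) (χ : N₁ →ₐ[K] N) (v : ι → EtCoh.sect G (O K N)),
      ∀ i, f.hom.app (op (O K N)) (v i) = H.obj.map (homO χ).op (c i) := by
  choose M h₁ h₂ h₃ h₄ h₅ φ w hw using fun i : ι => exists_lift_fields f (c i)
  letI := h₁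
  letI := h₂
  letI := h₃
  letI := h₄
  letI := h₅
  obtain ⟨N', _, _, _, _, _, hN'⟩ := exists_galois_receiving (K := K) M
  obtain ⟨N, _, _, _, _, _, ⟨ψ⟩, ⟨μ⟩⟩ := exists_common (K := K) L N'
  let i₀ : ι := Classical.arbitrary ι
  let χ : N₁ →ₐ[K] N := (μ.comp (hN' i₀).some).comp (φ i₀)
  have hlift : ∀ i, ∃ v : EtCoh.sect G (O K N),
      f.hom.app (op (O K N)) v = H.obj.map (homO χ).op (c i) := fun i => by
    obtain ⟨τ, hτ⟩ := exists_aut_right N₁ ((μ.comp (hN' i).some).comp (φ i)) χ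
    let θ : M i →ₐ[K] N := τ.toAlgHom.comp (μ.comp (hN' i).some)
    refine ⟨G.obj.map (homO θ).op (w i), ?_⟩
    rw [NatTrans.naturality_apply f.hom (homO θ).op (w i), hw i, map_homO_comp,
      show θ.comp (φ i) = χ from hτ]
  choose v hv using hlift
  exact ⟨N, ‹_›, ‹_›, ‹_›, ‹_›, ‹_›, ψ, χ, v, hv⟩

/-- Finitely many sections of `P F` come from `P` of a finite subsheaf. -/
theorem exists_sub [IsGalois K L] {F : EtCoh.Ab (S K)} (hF : EtCoh.IsTorsion F) {N : Type u} [Field N]
    [Algebra K N] [FiniteDimensional K N] [IsGalois K N] [Algebra.Etale K N] (ψ : L →ₐ[K] N)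
    {ι : Type (u + 1)} [Finite ι] (v : ι → EtCoh.sect ((P (jF K L)).obj F) (O K N)) :
    ∃ (G : EtCoh.Ab (S K)) (a : G ⟶ F), Mono a ∧ Fin N G ∧
      ∀ i, ∃ r : EtCoh.sect ((P (jF K L)).obj G) (O K N),
        ((P (jF K L)).map a).hom.app (op (O K N)) r = v i := by
  obtain ⟨b, hb⟩ := exists_points L ψ
  let W := (EtShriek.compEtale (jF K L)).obj ((EtCoh.bc (jF K L)).obj (O K N))
  let v' : ι → EtCoh.sect F W := v
  obtain ⟨T, hT, hTf, hst⟩ := exists_stable hF
    (Set.finite_range fun z : ι × (L ≃ₐ[K] L) => F.obj.map (b z.2).op (v' z.1))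
  haveI := hTf
  let D := ShortComplex.mk (subι F T) (cokernel.π (subι F T)) (cokernel.condition _)
  have hD : D.Exact := ShortComplex.exact_of_g_is_cokernel _ (cokernelIsCokernel _)
  haveI : Mono D.f := inferInstanceAs (Mono (subι F T))
  have hDP : (D.map (P (jF K L))).Exact := hD.map (P (jF K L))
  haveI : Mono (D.map (P (jF K L))).f := inferInstanceAs (Mono ((P (jF K L)).map (subι F T)))
  refine ⟨sub F T, subι F T, subι_mono F T, fin_sub hst, fun i => exists_sect_of_exact hDP (v i) ?_⟩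
  refine (P_map_app (jF K L) (cokernel.π (subι F T)) (O K N) (v' i)).trans ?_
  refine sections_ext (cokernel (subι F T)) (fun _ : L ≃ₐ[K] L => O K N) b ?_ _ 0 fun σ => ?_
  · intro z
    obtain ⟨σ, p, hp⟩ := hb z
    exact ⟨σ, p, hp⟩
  · refine (NatTrans.naturality_apply (cokernel.π (subι F T)).hom (b σ).op (v' i)).symm.trans ?_
    obtain ⟨r, hr⟩ := exists_subι (mem_subMem_self hst (hT ⟨(i, σ), rfl⟩))
    refine (congrArg ((cokernel.π (subι F T)).hom.app (op (O K N))) hr.symm).trans ?_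
    exact (ConcreteCategory.congr_hom (congrArg (fun m => m.hom.app (op (O K N))) D.zero) r).trans
      (map_zero ((cokernel (subι F T)).obj.map (b σ).op).hom).symm

/-- A finite sheaf mapping to `C` whose sections over `N` lift through `X → C'` factors through `C' → C`. -/
theorem comp_cokernel_eq_zero {G C' C X : EtCoh.Ab (S K)} (a : G ⟶ C) (m : C' ⟶ C) (p : X ⟶ C')
    {N₁ N : Type u} [Field N₁] [Algebra K N₁] [FiniteDimensional K N₁] [Algebra.IsSeparable K N₁]
    [Algebra.Etale K N₁] [Field N] [Algebra K N] [FiniteDimensional K N] [Algebra.IsSeparable K N]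
    [Algebra.Etale K N] (hG : Fin N₁ G) (χ : N₁ →ₐ[K] N)
    (h : ∀ i, ∃ r, (p ≫ m).hom.app (op (O K N)) r = C.obj.map (homO χ).op (a.hom.app (op (O K N₁)) i)) :
    a ≫ cokernel.π m = 0 := by
  refine hom_ext_fields _ _ fun M₀ _ _ _ _ _ s => ?_
  obtain ⟨M', _, _, _, _, _, ⟨α⟩, ⟨ρ⟩⟩ := exists_common (K := K) M₀ N
  apply map_homO_injective (cokernel m) α
  rw [← NatTrans.naturality_apply (a ≫ cokernel.π m).hom (homO α).op s]
  obtain ⟨i, hi⟩ := hG.2 M' (ρ.comp χ) (G.obj.map (homO α).op s)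
  rw [← hi]
  refine Eq.trans ?_ (map_zero ((cokernel m).obj.map (homO α).op).hom).symm
  show (cokernel.π m).hom.app (op (O K M')) (a.hom.app (op (O K M')) _) = _
  obtain ⟨r, hr⟩ := h i
  rw [NatTrans.naturality_apply a.hom (homO (ρ.comp χ)).op i, ← map_homO_comp, ← hr,
    NatTrans.naturality_apply (cokernel.π m).hom (homO ρ).op]
  have h0 : (p ≫ m) ≫ cokernel.π m = 0 := by rw [Category.assoc, cokernel.condition, comp_zero]
  refine (congrArg ((cokernel m).obj.map (homO ρ).op)
    (ConcreteCategory.congr_hom (congrArg (fun t => t.hom.app (op (O K N))) h0) r)).trans ?_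
  exact map_zero ((cokernel m).obj.map (homO ρ).op).hom

theorem hasFin_succ {q : ℕ} (ih : ∀ (C : EtCoh.Ab (S K)), EtCoh.IsTorsion C → ∀ y, HasFin K q C y)
    {F : EtCoh.Ab (S K)} (hF : EtCoh.IsTorsion F) (x : EtCoh.H (S K) F (q + 1)) : HasFin K (q + 1) F x := by
  obtain ⟨L₀, _, _, _, _, _, hL₀⟩ := exists_kill q F x
  obtain ⟨L, _, _, _, _, _, hL⟩ := exists_galois_receiving (K := K) (fun _ : Unit => L₀)
  obtain ⟨ψ₀⟩ := hL ()
  have hx : (Ext.mk₀ (aug (jF K L))).comp x (zero_add (q + 1)) = 0 :=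
    mk₀_aug_comp_eq_zero (jF K L₀) (jF K L) (homO ψ₀) hL₀
  let j := jF K L
  haveI := mono_η K L F
  let C := ShortComplex.mk ((η j).app F) (cokernel.π _) (cokernel.condition _)
  have hC : C.ShortExact :=
    { exact := ShortComplex.exact_of_g_is_cokernel _ (cokernelIsCokernel _)
      mono_f := mono_η K L F
      epi_g := inferInstanceAs (Epi (cokernel.π ((η j).app F))) }
  obtain ⟨y, hy⟩ := Ext.covariant_sequence_exact₁ _ hC x (comp_η_eq_zero j x hx) (n₀ := q) rfl
  haveI : Epi C.g := hC.epi_g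
  obtain ⟨N₁, _, _, _, _, _, G'', ι'', hι'', hfin, y'', hy''⟩ :=
    ih C.X₃ (isTorsion_of_epi C.g (isTorsion_P L hF)) y
  haveI := hfin.1
  haveI : Nonempty (EtCoh.sect G'' (O K N₁)) := ⟨0⟩
  obtain ⟨N, _, _, _, _, _, ψ, χ, v, hv⟩ :=
    exists_lifts C.g N₁ (fun i => ι''.hom.app (op (O K N₁)) i) L
  obtain ⟨G, ι, hι, hG, hr⟩ := exists_sub L hF ψ v
  haveI : Mono ι := hι
  let m := cokernel.map ((η j).app G) ((η j).app F) ι ((P j).map ι) ((η j).naturality ι).symm
  haveI : Mono m := mono_map_cokernel K L ι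
  have hfac : ι'' ≫ cokernel.π m = 0 :=
    comp_cokernel_eq_zero ι'' m (cokernel.π ((η j).app G)) hfin χ fun i => by
      obtain ⟨r, hr⟩ := hr i
      refine ⟨r, Eq.trans ?_ (hv i)⟩
      rw [cokernel.π_desc]
      exact congrArg (C.g.hom.app (op (O K N))) hr
  let C' := ShortComplex.mk ((η j).app G) (cokernel.π _) (cokernel.condition _)
  have hC' : C'.ShortExact :=
    { exact := ShortComplex.exact_of_g_is_cokernel _ (cokernelIsCokernel _)
      mono_f := mono_η K L G
      epi_g := inferInstanceAs (Epi (cokernel.π ((η j).app G))) }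
  let τ : C' ⟶ C :=
    { τ₁ := ι, τ₂ := (P j).map ι, τ₃ := m
      comm₁₂ := (η j).naturality ι
      comm₂₃ := (cokernel.π_desc _ _ _).symm }
  let Dm := ShortComplex.mk m (cokernel.π m) (cokernel.condition m)
  have hDm : Dm.Exact := ShortComplex.exact_of_g_is_cokernel _ (cokernelIsCokernel _)
  haveI : Mono Dm.f := ‹Mono m›
  let θ : G'' ⟶ C'.X₃ := hDm.lift ι'' hfac
  have hθ : θ ≫ τ.τ₃ = ι'' := hDm.lift_f _ hfac
  refine ⟨N, ‹_›, ‹_›, ‹_›, ‹_›, ‹_›, G, ι, hι, hG,
    (y''.comp (Ext.mk₀ θ) (add_zero q)).comp hC'.extClass rfl, ?_⟩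
  rw [Ext.comp_assoc (a₁₂ := q + 1) (a₂₃ := 1) (y''.comp (Ext.mk₀ θ) (add_zero q)) _ _ rfl (add_zero 1)
    (by omega)]
  have hnat : hC'.extClass.comp (Ext.mk₀ τ.τ₁) (add_zero 1) = (Ext.mk₀ τ.τ₃).comp hC.extClass (zero_add 1) :=
    ShortComplex.ShortExact.extClass_naturality hC' hC τ
  rw [show hC'.extClass.comp (Ext.mk₀ ι) (add_zero 1) = _ from hnat,
    ← Ext.comp_assoc (a₁₂ := q) (a₂₃ := 1) (y''.comp (Ext.mk₀ θ) (add_zero q)) _ _ (add_zero q) (zero_add 1)
      (by omega),
    Ext.comp_assoc_of_third_deg_zero y'', Ext.mk₀_comp_mk₀, hθ, hy'']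
  exact hy

/-- Every class with torsion coefficients comes from a finite subsheaf. -/
theorem exists_fin (q : ℕ) : ∀ (F : EtCoh.Ab (S K)), EtCoh.IsTorsion F → ∀ x, HasFin K q F x := by
  induction q with
  | zero => exact fun F hF x => hasFin_zero hF x
  | succ q ih => exact fun F hF x => hasFin_succ ih hF x

end Groth.Agent.H61.FieldCoh
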