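import Groth.Agent.H61.FieldCoh.Devissage
import Mathlib.FieldTheory.Galois.Basic
import Mathlib.GroupTheory.Sylow

/-!
# The `ℤ/p` criterion for cohomological `p`-dimension, arbitrary fields

`vanish_of_ext`: if `H^q(L, ℤ/p) = 0` for all finite separable `L/K`, then `p`-primary classes with
torsion coefficients in degree `q` vanish.
-/

set_option autoImplicit false

universe u

open CategoryTheory CategoryTheory.Limits CategoryTheory.Abelian AlgebraicGeometry Opposite

namespace Groth.Agent.H61.FieldCoh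

variable {K : Type u} [Field K] (L : Type u) [Field L] [Algebra K L] [Algebra.Etale K L]
  {N : Type u} [Field N] [Algebra K N] [Algebra.Etale K N] [Algebra L N] [IsScalarTower K L N]
  [Algebra.Etale L N]

theorem comp_jF (M : Type u) [CommRing M] [Algebra K M] [Algebra L M] [IsScalarTower K L M] :
    jF L M ≫ jF K L = jF K M := by
  rw [← Spec.map_comp, ← CommRingCat.ofHom_comp, ← IsScalarTower.algebraMap_eq]

/-- `Spec M` over `L`, seen over `K`. -/
noncomputable def towerIso (M : Type u) [CommRing M] [Algebra K M] [Algebra L M] [IsScalarTower K L M]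
    [Algebra.Etale K M] [Algebra.Etale L M] : (EtShriek.compEtale (jF K L)).obj (O L M) ⟶ O K M :=
  MorphismProperty.Over.homMk (𝟙 (Spec (CommRingCat.of M)))
    (show 𝟙 (Spec (CommRingCat.of M)) ≫ 𝟙 _ ≫ jF K M = (𝟙 _ ≫ jF L M) ≫ jF K L by
      rw [Category.id_comp, Category.id_comp, Category.id_comp, comp_jF])

instance isIso_towerIso (M : Type u) [CommRing M] [Algebra K M] [Algebra L M] [IsScalarTower K L M]
    [Algebra.Etale K M] [Algebra.Etale L M] : IsIso (towerIso (K := K) L M) := by
  refine ⟨MorphismProperty.Over.homMk (𝟙 (Spec (CommRingCat.of M)))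
    (show 𝟙 (Spec (CommRingCat.of M)) ≫ (𝟙 _ ≫ jF L M) ≫ jF K L = 𝟙 _ ≫ jF K M by
      rw [Category.id_comp, Category.id_comp, Category.id_comp, comp_jF]), ?_, ?_⟩
  · exact MorphismProperty.Over.Hom.ext (Category.id_comp _)
  · exact MorphismProperty.Over.Hom.ext (Category.id_comp _)

/-- Restrictions of finite sheaves are finite. -/
theorem fin_restr [FiniteDimensional K L] [Algebra.IsSeparable K L] {G : EtCoh.Ab (S K)} (h : Fin N G) :
    Fin N ((EtShriek.restrAlong (jF K L)).obj G) ∧
      ∀ (a : ℕ), (∀ s : EtCoh.sect G (O K N), a • s = 0) →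
        ∀ s : EtCoh.sect ((EtShriek.restrAlong (jF K L)).obj G) (O L N), a • s = 0 := by
  have hbij : ∀ (M : Type u) [Field M] [Algebra K M] [Algebra L M] [IsScalarTower K L M] [Algebra.Etale K M]
      [Algebra.Etale L M], Function.Bijective (G.obj.map (towerIso (K := K) L M).op) := fun M _ _ _ _ _ _ =>
    ConcreteCategory.bijective_of_isIso (G.obj.map (towerIso (K := K) L M).op)
  refine ⟨⟨?_, fun M _ _ _ _ _ e c => ?_⟩, fun a ha s => ?_⟩
  · haveI := h.1
    exact Finite.of_surjective _ (hbij N).2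
  · letI : Algebra K M := ((algebraMap L M).comp (algebraMap K L)).toAlgebra
    haveI : IsScalarTower K L M := IsScalarTower.of_algebraMap_eq fun x => rfl
    haveI : FiniteDimensional K M := Module.Finite.trans L M
    haveI : Algebra.IsSeparable K M := Algebra.IsSeparable.trans K L M
    haveI := etale_of_finite K M
    obtain ⟨t, ht⟩ := h.2 M (e.restrictScalars K) ((hbij M).2 c).choose
    refine ⟨G.obj.map (towerIso (K := K) L N).op t, ?_⟩
    rw [← ((hbij M).2 c).choose_spec, ← ht]
    refine (map_map G _ _ t).trans (Eq.trans ?_ (map_map G _ _ t).symm)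
    refine congrArg (fun z => G.obj.map (Quiver.Hom.op z) t) (MorphismProperty.Over.Hom.ext ?_)
    show Spec.map (CommRingCat.ofHom e.toRingHom) ≫ 𝟙 _ =
      𝟙 _ ≫ Spec.map (CommRingCat.ofHom (e.restrictScalars K).toRingHom)
    rw [Category.comp_id, Category.id_comp]
    rfl
  · obtain ⟨t, rfl⟩ := (hbij N).2 s
    exact (map_nsmul (G.obj.map (towerIso (K := K) L N).op).hom a t).symm.trans ((congrArg (G.obj.map (towerIso (K := K) L N).op) (ha t)).trans (map_zero _))

/-- `H^q(L, ℤ/p) = 0` for all finite separable `L/K` gives vanishing in degree `q`. -/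
theorem vanish_of_ext (p : ℕ) [Fact p.Prime] (q : ℕ)
    (hZ : ∀ (L : Type u) [Field L] [Algebra K L], FiniteDimensional K L → Algebra.IsSeparable K L →
      Subsingleton (EtCoh.H (S L) (EtCoh.const (S L) (ZMod p)) q)) : Vanish K p q := by
  intro F hF x ⟨m, hm⟩
  obtain ⟨N, _, _, _, _, _, G, ι, -, hfin, x', rfl⟩ := exists_fin q F hF x
  refine comp_eq_zero_of_fin p (fun G hfin htor x => ?_) hfin ι x' m hm
  haveI := Fact.mk (Fact.out : p.Prime)
  obtain ⟨P⟩ : Nonempty (Sylow p (N ≃ₐ[K] N)) := inferInstance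
  let L := IntermediateField.fixedField P.toSubgroup
  haveI : Algebra.IsSeparable K L := Algebra.isSeparable_tower_bot_of_isSeparable K L N
  haveI := etale_of_finite K L
  haveI := etale_of_finite L N
  have hP : IsPGroup p (N ≃ₐ[L] N) :=
    P.isPGroup'.of_equiv ((MulEquiv.subgroupCongr (IntermediateField.fixingSubgroup_fixedField
      P.toSubgroup).symm).trans (IntermediateField.fixingSubgroupEquiv L))
  have hcop : ¬ p ∣ Module.finrank K L := by
    have h1 : Module.finrank K L * Module.finrank L N = Module.finrank K N := Module.finrank_mul_finrank K L N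
    rw [IntermediateField.finrank_fixedField_eq_card, ← IsGalois.card_aut_eq_finrank K N,
      ← P.toSubgroup.index_mul_card] at h1
    rw [mul_right_cancel₀ Nat.card_pos.ne' h1]
    exact P.not_dvd_index
  haveI := hfin.1
  obtain ⟨a, ha⟩ : ∃ a, ∀ s : EtCoh.sect G (O K N), p ^ a • s = 0 := by
    classical
    let : Fintype (EtCoh.sect G (O K N)) := Fintype.ofFinite _
    refine ⟨Finset.univ.sup fun s => (htor s).choose, fun s => ?_⟩
    obtain ⟨d, hd⟩ := Nat.exists_eq_add_of_le (Finset.le_sup (f := fun s => (htor s).choose) (Finset.mem_univ s))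
    rw [hd, pow_add, mul_nsmul, (htor s).choose_spec, smul_zero]
  obtain ⟨hfin', htor'⟩ := fin_restr (K := K) L hfin
  have h0 : ∀ y : EtCoh.H (S L) ((EtShriek.restrAlong (jF K L)).obj G) q, y = 0 :=
    vanish_pGroup p hP q (hZ L inferInstance inferInstance) _ _ hfin' rfl (fun s => ⟨a, htor' _ ha s⟩)
  have h1 : EtCore.Hpull (jF K L) G q x = 0 := by
    let e := (Groth.Agent.Lib.EtJ.Basic.pullIsoRestr (jF K L)).app G
    have h := h0 ((EtCore.Hpull (jF K L) G q x).comp (Ext.mk₀ e.hom) (add_zero q))
    have h' := congrArg (fun y => Ext.comp y (Ext.mk₀ e.inv) (add_zero q)) h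
    rw [Ext.comp_assoc_of_third_deg_zero, Ext.mk₀_comp_mk₀, Iso.hom_inv_id, Ext.comp_mk₀_id,
      Ext.zero_comp] at h'
    exact h'
  have h2 : Module.finrank K L • x = 0 :=
    finrank_nsmul_eq_zero K L ((Hpull_eq_zero_iff (jF K L) G q x).1 h1)
  have h3 : p ^ a • x = 0 := by
    rw [← comp_mk₀_nsmul, hfin.hom_eq_zero (p ^ a • 𝟙 G) fun t => by rw [nsmul_id_app, ha], Ext.mk₀_zero,
      Ext.comp_zero]
  exact AddMonoid.addOrderOf_eq_one_iff.1 (Nat.eq_one_of_dvd_coprimes
    (Nat.Coprime.pow_left a ((Fact.out : p.Prime).coprime_iff_not_dvd.2 hcop))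
    (addOrderOf_dvd_of_nsmul_eq_zero h3) (addOrderOf_dvd_of_nsmul_eq_zero h2))

/-- Above degree `n`: it suffices to treat `ℤ/p` in degree `n + 1`. -/
theorem vanish_above (p : ℕ) [Fact p.Prime] (n : ℕ)
    (hZ : ∀ (L : Type u) [Field L] [Algebra K L], FiniteDimensional K L → Algebra.IsSeparable K L →
      Subsingleton (EtCoh.H (S L) (EtCoh.const (S L) (ZMod p)) (n + 1))) (q : ℕ) (hq : n < q) :
    Vanish K p q := by
  obtain ⟨d, rfl⟩ : ∃ d, q = n + 1 + d := ⟨q - (n + 1), by omega⟩
  suffices h : ∀ (L : Type u) [Field L] [Algebra K L], FiniteDimensional K L → Algebra.IsSeparable K L →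
      Subsingleton (EtCoh.H (S L) (EtCoh.const (S L) (ZMod p)) (n + 1 + d)) from vanish_of_ext p _ h
  clear hq
  induction d with
  | zero => exact hZ
  | succ d ih =>
    intro L _ _ hf hs
    haveI := hf
    haveI := hs
    refine subsingleton_succ_of_vanish p (q := n + 1 + d) (vanish_of_ext (K := L) p _ fun M _ _ hf' hs' => ?_)
    haveI := hf'
    haveI := hs'
    letI : Algebra K M := ((algebraMap L M).comp (algebraMap K L)).toAlgebra
    haveI : IsScalarTower K L M := IsScalarTower.of_algebraMap_eq fun x => rfl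
    exact ih M (Module.Finite.trans L M) (Algebra.IsSeparable.trans K L M)

end Groth.Agent.H61.FieldCoh
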