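import Groth.Agent.H61.FieldCoh.DVRNorm
import Groth.Agent.S7733
import Groth.Agent.S13292
import Groth.Agent.S13295
import Mathlib.RingTheory.SimpleModule.WedderburnArtin

/-!
# Fields with trivial Brauer groups of finite extensions

* `normSurj_of_br`: norms are surjective.
* `eq_zero_of_prime`: `p`-primary torsion coefficient cohomology vanishes in degrees `≥ 2`.
* `subsingleton_H_torsion`, `subsingleton_H_Gm`.
-/

set_option autoImplicit false

universe u

open CategoryTheory CategoryTheory.Limits CategoryTheory.Abelian AlgebraicGeometry Opposite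
open scoped TensorProduct

namespace Groth.Agent.H61.FieldCoh

/-- Trivial Brauer group of `E`: every cyclic algebra is a matrix algebra, so norms are surjective. -/
theorem exists_norm_of_division {E : Type u} [Field E]
    (hBr : ∀ (D : Type u) [DivisionRing D] [Algebra E D] [Algebra.IsCentral E D] [FiniteDimensional E D],
      Module.finrank E D = 1)
    (M : Type u) [Field M] [Algebra E M] [FiniteDimensional E M] [IsGalois E M] [IsCyclic (M ≃ₐ[E] M)]
    (c : E) (hc : c ≠ 0) : ∃ y : M, Algebra.norm E y = c := by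
  obtain ⟨σ, hσ⟩ := IsCyclic.exists_generator (α := M ≃ₐ[E] M)
  obtain ⟨B, -, hB⟩ := Groth.Agent.S13295.result E M σ hσ (Units.mk0 c hc)
  obtain ⟨P⟩ := Groth.Agent.Lib.Brauer.Cyclic.nonempty_pres hB
  obtain ⟨hcen, hsimp, hfin⟩ := Groth.Agent.Lib.Brauer.Cyclic.isCSA hσ P
  haveI := hcen
  haveI := hsimp
  haveI := hfin
  haveI : IsArtinianRing B := IsArtinianRing.of_finite E B
  obtain ⟨n, hn, D, _, _, hD, ⟨e⟩⟩ := IsSimpleRing.exists_algEquiv_matrix_divisionRing_finite E B
  haveI : Algebra.IsCentral E D := by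
    refine ⟨fun x hx => ?_⟩
    rw [Subalgebra.mem_center_iff] at hx
    have hmem : e.symm (Matrix.scalar (_root_.Fin n) x) ∈ Subalgebra.center E B := by
      refine Subalgebra.mem_center_iff.2 fun b => e.injective ?_
      rw [map_mul, map_mul, e.apply_symm_apply]
      exact ((Matrix.scalar_commute x (fun r => (hx r).symm) (e b)).eq).symm
    obtain ⟨r, hr⟩ := Algebra.mem_bot.1 (hcen.out hmem)
    refine Algebra.mem_bot.2 ⟨r, ?_⟩
    have h := congrArg e hr
    rw [AlgEquiv.commutes, e.apply_symm_apply] at h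
    have h' := congrFun (congrFun h 0) 0
    simpa [Matrix.algebraMap_matrix_apply, Matrix.scalar] using h'
  have h1 : Function.Bijective (Algebra.ofId E D) := by
    refine ⟨(algebraMap E D).injective, fun d => ?_⟩
    obtain ⟨r, hr⟩ := (finrank_eq_one_iff_of_nonzero' (1 : D) one_ne_zero).1 (hBr D) d
    exact ⟨r, (Algebra.algebraMap_eq_smul_one r).trans hr⟩
  let e' : B ≃ₐ[E] Matrix (_root_.Fin n) (_root_.Fin n) E := e.trans (AlgEquiv.ofBijective _ h1).symm.mapMatrix
  exact ((Groth.Agent.S13292.result E M σ hσ (Units.mk0 c hc) B hB).1.1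
    ⟨n, hn.out, ⟨(Algebra.TensorProduct.lid E B).trans e'⟩⟩)

/-- Trivial Brauer groups of finite extensions give surjective norms. -/
theorem normSurj_of_br {K : Type u} [Field K]
    (hBr : ∀ (K' : Type u) [Field K'] [Algebra K K'] [FiniteDimensional K K']
      (D : Type u) [DivisionRing D] [Algebra K' D] [Algebra.IsCentral K' D] [FiniteDimensional K' D],
      Module.finrank K' D = 1) (p : ℕ) [Fact p.Prime] : NormSurj K p := by
  intro E _ _ hf _ M _ _ _ _ hd c hc
  haveI := hf
  haveI : IsCyclic (M ≃ₐ[E] M) := isCyclic_of_prime_card (p := p) (by rw [IsGalois.card_aut_eq_finrank, hd])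
  exact exists_norm_of_division (hBr E) M c hc

variable {K : Type u} [Field K]

/-- Vanishing of primary parts in degrees `≥ 2`. -/
theorem vanish_of_forall_normSurj (hN : ∀ p : ℕ, p.Prime → NormSurj K p) (p : ℕ) [Fact p.Prime] {q : ℕ}
    (hq : 1 < q) : Vanish K p q := by
  by_cases hp : (p : K) = 0
  · haveI : CharP K p := ((Fact.out : p.Prime).eq_one_or_self_of_dvd _ (CharP.cast_eq_zero_iff K (ringChar K) p |>.1 hp)).elim
      (fun h => absurd h CharP.ringChar_ne_one) (fun h => ringChar.of_eq h)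
    exact fun F hF x hx => Groth.Agent.S7733.result K p F hF q hq x hx
  · exact vanish_of_normSurj p hp (hN p Fact.out) hq

/-- Torsion sheaves have no cohomology in degrees `≥ 2`. -/
theorem subsingleton_H_torsion (hN : ∀ p : ℕ, p.Prime → NormSurj K p) (F : EtCoh.Ab (S K))
    (hF : EtCoh.IsTorsion F) {q : ℕ} (hq : 1 < q) : Subsingleton (EtCoh.H (S K) F q) := by
  refine subsingleton_of_forall_eq 0 fun x => ?_
  obtain ⟨n, hn, hx⟩ := isOfFinAddOrder_iff_nsmul_eq_zero.1 (isOfFinAddOrder (by omega) x)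
  refine eq_zero_of_primeFactors hn.ne' (fun l hl _ y hy => ?_) x hx
  haveI := Fact.mk hl
  exact vanish_of_forall_normSurj hN l hq F hF y hy

/-- The `p`-th power map is injective in characteristic `p`. -/
theorem mono_powMap_char (p : ℕ) [Fact p.Prime] [CharP K p] : Mono (EtCoh.powMap (S K) p) := by
  refine Preadditive.mono_of_cancel_zero _ fun {Z} a ha => hom_ext_fields a 0 fun M _ _ _ _ _ z => ?_
  haveI : CharP M p := charP_of_injective_algebraMap (algebraMap K M).injective p
  obtain ⟨w, hw⟩ := (gmO_bijective (K := K) M).2 (a.hom.app (op (O K M)) z)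
  have h : p • (a.hom.app (op (O K M)) z) = 0 := by
    rw [← nsmul_id_app]
    exact ConcreteCategory.congr_hom (congrArg (fun m : Z ⟶ _ => m.hom.app (op (O K M))) ha) z
  rw [← hw, ← map_nsmul, ← map_zero (gmO (K := K) M)] at h
  have hwp : w.toMul ^ p = 1 := congrArg Additive.toMul ((gmO_bijective M).1 h)
  have hw1 : w.toMul = 1 := Units.ext (frobenius_inj M p (by
    rw [frobenius_def, frobenius_def, Units.val_one, one_pow, ← Units.val_pow_eq_pow_val, hwp, Units.val_one]))
  rw [← hw, show w = 0 from congrArg Additive.ofMul hw1, map_zero]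
  rfl

/-- `G_m` in degrees `≥ 3`. -/
theorem gm_eq_zero_high (hN : ∀ p : ℕ, p.Prime → NormSurj K p) (p : ℕ) [Fact p.Prime] {q : ℕ}
    (x : EtCoh.H (S K) (EtCoh.Gm (S K)) (q + 3)) (hx : p • x = 0) : x = 0 := by
  by_cases hp : (p : K) = 0
  · haveI : CharP K p := ((Fact.out : p.Prime).eq_one_or_self_of_dvd _ (CharP.cast_eq_zero_iff K (ringChar K) p |>.1 hp)).elim
      (fun h => absurd h CharP.ringChar_ne_one) (fun h => ringChar.of_eq h)
    haveI := mono_powMap_char (K := K) p
    let C := cokernel (EtCoh.powMap (S K) p)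
    have hC : p • 𝟙 C = 0 := by
      rw [← cancel_epi (cokernel.π (EtCoh.powMap (S K) p)), comp_zero, Preadditive.comp_nsmul, Category.comp_id,
        ← Category.id_comp (cokernel.π _), ← Preadditive.nsmul_comp]
      exact cokernel.condition (EtCoh.powMap (S K) p)
    have hS : (ShortComplex.mk _ _ (cokernel.condition (EtCoh.powMap (S K) p))).ShortExact :=
      { exact := ShortComplex.exact_of_g_is_cokernel _ (cokernelIsCokernel _)
        mono_f := inferInstanceAs (Mono (EtCoh.powMap (S K) p))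
        epi_g := inferInstanceAs (Epi (cokernel.π (EtCoh.powMap (S K) p))) }
    obtain ⟨z, hz⟩ := Ext.covariant_sequence_exact₁ _ hS x
      ((comp_mk₀_nsmul p x).trans hx) (n₀ := q + 2) rfl
    refine hz.symm.trans ((congrArg (fun t => Ext.comp t hS.extClass rfl) (?_ : z = 0)).trans (Ext.zero_comp ..))
    exact Groth.Agent.S7733.result K p C (isTorsion_of_nsmul_id (Fact.out : p.Prime).pos hC) (q + 2) (by omega) z
      ⟨1, by rw [pow_one, ← comp_mk₀_nsmul, hC, Ext.mk₀_zero, Ext.comp_zero]⟩
  · haveI : Epi (EtCoh.powMap (S K) p) := by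
      refine Groth.Agent.Lib.EtSite.Kummer.epi_powMap (S K) p ?_
      have h := (IsUnit.mk0 _ hp).map (Scheme.ΓSpecIso (CommRingCat.of K)).inv.hom
      rwa [map_natCast] at h
    let N := kernel (EtCoh.powMap (S K) p)
    have hK : p • 𝟙 N = 0 := by
      rw [← cancel_mono (kernel.ι (EtCoh.powMap (S K) p)), zero_comp, Preadditive.nsmul_comp, Category.id_comp,
        ← Category.comp_id (kernel.ι _), ← Preadditive.comp_nsmul]
      exact kernel.condition (EtCoh.powMap (S K) p)
    have hS : (ShortComplex.mk _ _ (kernel.condition (EtCoh.powMap (S K) p))).ShortExact :=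
      { exact := ShortComplex.exact_of_f_is_kernel _ (kernelIsKernel _)
        mono_f := inferInstanceAs (Mono (kernel.ι (EtCoh.powMap (S K) p)))
        epi_g := inferInstanceAs (Epi (EtCoh.powMap (S K) p)) }
    obtain ⟨z, hz⟩ := Ext.covariant_sequence_exact₂ _ hS x ((comp_mk₀_nsmul p x).trans hx)
    refine hz.symm.trans ((congrArg (fun t => Ext.comp t (Ext.mk₀ (kernel.ι (EtCoh.powMap (S K) p))) (add_zero _))
      (?_ : z = 0)).trans (Ext.zero_comp ..))
    exact vanish_of_normSurj p hp (hN p Fact.out) (by omega) N (isTorsion_of_nsmul_id (Fact.out : p.Prime).pos hK) z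
      ⟨1, by rw [pow_one, ← comp_mk₀_nsmul, hK, Ext.mk₀_zero, Ext.comp_zero]⟩

/-- `G_m` has no cohomology in positive degrees. -/
theorem subsingleton_H_Gm (hN : ∀ p : ℕ, p.Prime → NormSurj K p) {q : ℕ} (hq : 1 ≤ q) :
    Subsingleton (EtCoh.H (S K) (EtCoh.Gm (S K)) q) := by
  match q, hq with
  | 1, _ => exact Groth.Agent.Lib.EtH1Gm.HofPush.subsingleton_H1_field (K := K)
  | 2, _ =>
    refine subsingleton_of_forall_eq 0 fun x => ?_
    obtain ⟨n, hn, hx⟩ := isOfFinAddOrder_iff_nsmul_eq_zero.1 (isOfFinAddOrder (by omega) x)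
    refine eq_zero_of_primeFactors hn.ne' (fun l hl _ y ⟨m, hm⟩ => ?_) x hx
    haveI := Fact.mk hl
    exact gm_eq_zero l (hN l hl) y m hm
  | q + 3, _ =>
    refine subsingleton_of_forall_eq 0 fun x => ?_
    obtain ⟨n, hn, hx⟩ := isOfFinAddOrder_iff_nsmul_eq_zero.1 (isOfFinAddOrder (by omega) x)
    refine eq_zero_of_primeFactors hn.ne' (fun l hl _ y ⟨m, hm⟩ => ?_) x hx
    haveI := Fact.mk hl
    suffices H : ∀ (m : ℕ) (y : EtCoh.H (S K) (EtCoh.Gm (S K)) (q + 3)), l ^ m • y = 0 → y = 0 from H m y hm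
    intro m
    induction m with
    | zero => intro y hy; rwa [pow_zero, one_nsmul] at hy
    | succ m ih => intro y hy; exact gm_eq_zero_high hN l y (ih (l • y) (by rwa [pow_succ', mul_nsmul] at hy))

end Groth.Agent.H61.FieldCoh
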