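import Groth.Agent.H61.FieldCoh.Fin
import Groth.Prelude.Def_EtCore
import Mathlib.CategoryTheory.Sites.LocallySurjective
import Mathlib.Algebra.Group.ULift

/-!
# Fixed sections of prime order give embedded constant sheaves
-/

set_option autoImplicit false

universe u

open CategoryTheory CategoryTheory.Limits AlgebraicGeometry Opposite

namespace Groth.Agent.H61.FieldCoh

variable {K : Type u} [Field K]

/-- A global section of prime order `p` is a monomorphism `ℤ/p ⟶ G`. -/
theorem exists_mono_const {G : EtCoh.Ab (S K)} (p : ℕ) [Fact p.Prime] (s : EtCoh.sect G (EtCoh.top (S K)))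
    (hp : p • s = 0) (hs : s ≠ 0) : ∃ φ : EtCoh.const (S K) (ZMod p) ⟶ G, Mono φ ∧
      ∃ u, φ.hom.app (op (EtCoh.top (S K))) u = s := by
  let A := AddCommGrpCat.of (ULift.{u + 1} (ZMod p))
  let f₀ : ZMod p →+ EtCoh.sect G (EtCoh.top (S K)) :=
    ZMod.lift p ⟨(zmultiplesHom _) s, by simpa using hp⟩
  let f : A ⟶ (EtCore.gsec (S K)).obj G := AddCommGrpCat.ofHom (f₀.comp AddEquiv.ulift.toAddMonoidHom)
  let φ : EtCoh.const (S K) (ZMod p) ⟶ G := ((EtCore.constAdj (S K)).homEquiv A G).symm f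
  let P := (Functor.const (S K).Etaleᵒᵖ).obj A
  let t : P ⟶ (EtCoh.const (S K) (ZMod p)).obj := toSheafify (S K).smallEtaleTopology P
  have hφ : ∀ c : A, φ.hom.app (op (EtCoh.top (S K))) (t.app (op (EtCoh.top (S K))) c) = f c := fun c => by
    have h := ConcreteCategory.congr_hom
      (((EtCore.constAdj (S K)).homEquiv_unit A G φ).symm.trans (Equiv.apply_symm_apply _ f)) c
    refine Eq.trans ?_ h
    simp [EtCore.constAdj, constantSheafAdj, constantPresheafAdj, t, P]
  haveI : Presheaf.IsLocallySurjective (S K).smallEtaleTopology t :=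
    inferInstanceAs (Presheaf.IsLocallySurjective _ (toSheafify (S K).smallEtaleTopology P))
  refine ⟨φ, Preadditive.mono_of_cancel_zero _ fun {Z} a ha => hom_ext_fields a 0 fun M _ _ _ _ _ z => ?_,
    t.app (op (EtCoh.top (S K))) ⟨((1 : ℤ) : ZMod p)⟩, (hφ _).trans ?_⟩
  swap
  · show f₀ ((1 : ℤ) : ZMod p) = s
    rw [ZMod.lift_coe]
    exact one_zsmul s
  have hz : φ.hom.app (op (O K M)) (a.hom.app (op (O K M)) z) = 0 :=
    (ConcreteCategory.congr_hom (congrArg (fun m => m.hom.app (op (O K M))) ha) z).trans rfl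
  refine ext_fields (EtCoh.const (S K) (ZMod p)) _ _ fun M₁ _ _ _ _ _ b => ?_
  obtain ⟨V, g, ⟨c, hc⟩, v, -⟩ := (Groth.Agent.Lib.EtSite.Basic.mem_topology_iff _).1
    (Presheaf.imageSieve_mem (S K).smallEtaleTopology t
      ((EtCoh.const (S K) (ZMod p)).obj.map b.op (a.hom.app (op (O K M)) z)))
    (show (O K M₁).left from (⟨⊥, Ideal.isPrime_bot⟩ : PrimeSpectrum M₁))
  obtain ⟨M₂, _, _, _, _, _, e, -, -⟩ := exists_field_point' V v
  obtain ⟨ψ, hψ⟩ := exists_homO (e ≫ g)
  let top := (EtCore.topIsTerminal (S K)).from (O K M₂)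
  have hc' : (EtCoh.const (S K) (ZMod p)).obj.map (homO ψ).op
      ((EtCoh.const (S K) (ZMod p)).obj.map b.op (a.hom.app (op (O K M)) z)) =
      (EtCoh.const (S K) (ZMod p)).obj.map top.op (t.app (op (EtCoh.top (S K))) c) := by
    rw [hψ, ← map_map]
    refine (congrArg ((EtCoh.const (S K) (ZMod p)).obj.map e.op) hc.symm).trans ?_
    refine ((NatTrans.naturality_apply t e.op c).symm.trans ?_)
    exact NatTrans.naturality_apply t top.op c
  have hc0 : c = 0 := by
    have h1 := congrArg (φ.hom.app (op (O K M₂))) hc'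
    rw [NatTrans.naturality_apply φ.hom, NatTrans.naturality_apply φ.hom, NatTrans.naturality_apply φ.hom, hz,
      map_zero, map_zero, hφ] at h1
    have h3 : f c = 0 := by
      refine sections_ext G (fun _ : Unit => O K M₂) (fun _ => top)
        (fun x => ⟨(), (⟨⊥, Ideal.isPrime_bot⟩ : PrimeSpectrum M₂), Subsingleton.elim _ _⟩) _ 0 fun _ => ?_
      rw [map_zero]
      exact h1.symm
    apply ULift.ext
    by_contra hne
    obtain ⟨d, hd⟩ := ZMod.intCast_surjective c.down
    have h4 : d • s = 0 := by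
      have h5 : f₀ c.down = 0 := h3
      rwa [← hd, ZMod.lift_coe] at h5
    refine hne ?_
    rw [← hd]
    show (d : ZMod p) = 0
    rw [ZMod.intCast_zmod_eq_zero_iff_dvd, ← addOrderOf_eq_prime hp hs]
    exact addOrderOf_dvd_iff_zsmul_eq_zero.2 h4
  apply map_homO_injective (EtCoh.const (S K) (ZMod p)) ψ
  rw [hc', hc0, map_zero, map_zero]
  exact ((congrArg ((EtCoh.const (S K) (ZMod p)).obj.map (homO ψ).op)
    (map_zero ((EtCoh.const (S K) (ZMod p)).obj.map b.op).hom)).trans
      (map_zero ((EtCoh.const (S K) (ZMod p)).obj.map (homO ψ).op).hom)).symm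

end Groth.Agent.H61.FieldCoh
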