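import Groth.Agent.H61.FieldCoh.Continuity
import Groth.Agent.H61.FieldCoh.Const
import Mathlib.GroupTheory.PGroup
import Mathlib.GroupTheory.Perm.Cycle.Type

/-!
# Dévissage for `p`-groups: cohomological `p`-dimension from `ℤ/p`
-/

set_option autoImplicit false

universe u

open CategoryTheory CategoryTheory.Limits CategoryTheory.Abelian AlgebraicGeometry Opposite

namespace Groth.Agent.H61.FieldCoh

variable {K : Type u} [Field K]

theorem comp_mk₀_nsmul {X : Scheme.{u}} {G : EtCoh.Ab X} {q : ℕ} (n : ℕ) (e : EtCoh.H X G q) :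
    e.comp (Ext.mk₀ (n • 𝟙 G)) (add_zero q) = n • e := by
  induction n with
  | zero => rw [zero_smul, zero_smul, Ext.mk₀_zero, Ext.comp_zero]
  | succ n ih => rw [add_smul, one_smul, Ext.mk₀_add, Ext.comp_add, Ext.comp_mk₀_id, ih, add_smul, one_smul]

variable {N : Type u} [Field N] [Algebra K N] [FiniteDimensional K N] [Algebra.IsSeparable K N]
  [Algebra.Etale K N]

/-- Quotient sections over `N` lift. -/
theorem Fin.surjective_app {G H : EtCoh.Ab (S K)} (h : Fin N G) (f : G ⟶ H) [Epi f] :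
    Function.Surjective (f.hom.app (op (O K N))) := fun c => by
  obtain ⟨M', _, _, _, _, _, φ, r, hr⟩ := exists_lift_fields f c
  obtain ⟨t, rfl⟩ := h.2 M' φ r
  exact ⟨t, map_homO_injective H φ ((NatTrans.naturality_apply f.hom (homO φ).op t).symm.trans hr)⟩

/-- A finite sheaf without sections over `N` is zero. -/
theorem Fin.hom_eq_zero {G H : EtCoh.Ab (S K)} (h : Fin N G) (f : G ⟶ H)
    (hf : ∀ t, f.hom.app (op (O K N)) t = 0) : f = 0 := by
  refine hom_ext_fields f 0 fun M _ _ _ _ _ s => ?_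
  obtain ⟨M', _, _, _, _, _, ⟨α⟩, ⟨ρ⟩⟩ := exists_common (K := K) M N
  obtain ⟨t, ht⟩ := h.2 M' ρ (G.obj.map (homO α).op s)
  apply map_homO_injective H α
  rw [← NatTrans.naturality_apply f.hom (homO α).op s, ← ht, NatTrans.naturality_apply f.hom (homO ρ).op t,
    hf t, map_zero]
  exact (map_zero (H.obj.map (homO α).op).hom).symm

variable [IsGalois K N]

/-- Dévissage by fixed sections. -/
theorem vanish_pGroup (p : ℕ) [Fact p.Prime] (hG : IsPGroup p (N ≃ₐ[K] N)) (q : ℕ)
    (hZ : Subsingleton (EtCoh.H (S K) (EtCoh.const (S K) (ZMod p)) q)) :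
    ∀ (n : ℕ) (G : EtCoh.Ab (S K)), Fin N G → Nat.card (EtCoh.sect G (O K N)) = n →
      (∀ s : EtCoh.sect G (O K N), ∃ a, p ^ a • s = 0) → ∀ x : EtCoh.H (S K) G q, x = 0 := by
  intro n
  induction n using Nat.strong_induction_on with
  | _ n ih =>
  intro G hfin hcard htor x
  haveI := hfin.1
  by_cases hsub : Subsingleton (EtCoh.sect G (O K N))
  · have h0 : 𝟙 G = 0 := hfin.hom_eq_zero _ fun t => Subsingleton.elim _ _
    rw [← x.comp_mk₀_id, h0, Ext.mk₀_zero, Ext.comp_zero]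
  rw [not_subsingleton_iff_nontrivial] at hsub
  letI : MulAction (N ≃ₐ[K] N) (EtCoh.sect G (O K N)) :=
    { smul := fun σ t => G.obj.map (homO σ.toAlgHom).op t
      one_smul := fun t => by
        show G.obj.map (homO (AlgHom.id K N)).op t = t
        rw [homO_id, op_id, CategoryTheory.Functor.map_id, ConcreteCategory.id_apply]
      mul_smul := fun σ τ t => (map_homO_comp G τ.toAlgHom σ.toAlgHom t).symm }
  have hdvd : p ∣ Nat.card (EtCoh.sect G (O K N)) := by
    have hne : Nat.card (EtCoh.sect G (O K N)) ≠ 1 := fun h => by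
      have := (Nat.card_eq_one_iff_unique.1 h).1
      exact not_subsingleton (EtCoh.sect G (O K N)) this
    obtain ⟨ℓ, hℓ, hℓd⟩ := Nat.exists_prime_and_dvd hne
    haveI := Fact.mk hℓ
    obtain ⟨t, ht⟩ := exists_prime_addOrderOf_dvd_card' ℓ hℓd
    obtain ⟨a, ha⟩ := htor t
    have h := addOrderOf_dvd_of_nsmul_eq_zero ha
    rw [ht] at h
    rwa [← (Nat.prime_dvd_prime_iff_eq hℓ Fact.out).1 (hℓ.dvd_of_dvd_pow h)]
  obtain ⟨b, hb, hb0⟩ := hG.exists_fixed_point_of_prime_dvd_card_of_fixed_point _ hdvd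
    (a := (0 : EtCoh.sect G (O K N))) (fun σ => map_zero (G.obj.map (homO σ.toAlgHom).op).hom)
  obtain ⟨a, hmin⟩ : ∃ a, p ^ (a + 1) • b = 0 ∧ p ^ a • b ≠ 0 := by
    classical
    have he := htor b
    obtain ⟨a, ha⟩ : ∃ a, Nat.find he = a + 1 := by
      refine ⟨Nat.find he - 1, ?_⟩
      have : Nat.find he ≠ 0 := fun h => hb0 (by
        have h' := Nat.find_spec he
        rw [h, pow_zero, one_nsmul] at h'
        exact h'.symm)
      omega
    exact ⟨a, ha ▸ Nat.find_spec he, Nat.find_min he (by omega)⟩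
  let t := p ^ a • b
  have hfix : ∀ σ : N ≃ₐ[K] N, G.obj.map (homO σ.toAlgHom).op t = t := fun σ => by
    rw [map_nsmul]
    exact congrArg (p ^ a • ·) (hb σ)
  obtain ⟨s, hs, -⟩ := existsUnique_descend G t hfix
  have hps : p • s = 0 := by
    refine sections_ext G (fun _ : Unit => O K N) (fun _ => (EtCore.topIsTerminal (S K)).from (O K N))
      (fun v => surjective_to_top _ v) _ 0 fun _ => ?_
    rw [map_nsmul, hs, map_zero, ← mul_nsmul, ← pow_succ]
    exact hmin.1
  have hs0 : s ≠ 0 := fun h => hmin.2 (by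
    show t = 0
    rw [← hs, h, map_zero])
  obtain ⟨φ, hφ, u, hu⟩ := exists_mono_const p s hps hs0
  haveI := hφ
  let C := ShortComplex.mk φ (cokernel.π φ) (cokernel.condition φ)
  have hC : C.ShortExact :=
    { exact := ShortComplex.exact_of_g_is_cokernel _ (cokernelIsCokernel φ)
      mono_f := hφ
      epi_g := inferInstanceAs (Epi (cokernel.π φ)) }
  have hsurj := hfin.surjective_app (cokernel.π φ)
  have hlt : Nat.card (EtCoh.sect (cokernel φ) (O K N)) < n := by
    rw [← hcard]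
    refine lt_of_le_of_ne (Nat.card_le_card_of_surjective _ hsurj) fun h => hmin.2 ?_
    refine ((Nat.bijective_iff_surjective_and_card _).2 ⟨hsurj, h.symm⟩).1 ?_
    rw [map_zero, show p ^ a • b = _ from hs.symm, ← hu, ← NatTrans.naturality_apply φ.hom]
    exact ConcreteCategory.congr_hom (congrArg (fun m => m.hom.app (op (O K N))) C.zero) _
  have hx : x.comp (Ext.mk₀ C.g) (add_zero q) = 0 :=
    ih _ hlt (cokernel φ) (hfin.of_epi (cokernel.π φ)) rfl (fun c => by
      obtain ⟨g, rfl⟩ := hsurj c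
      obtain ⟨e, he⟩ := htor g
      exact ⟨e, by rw [← map_nsmul, he, map_zero]⟩) _
  obtain ⟨x₁, rfl⟩ := Ext.covariant_sequence_exact₂ _ hC x hx
  haveI := hZ
  exact (congrArg (fun e => Ext.comp e (Ext.mk₀ C.f) (add_zero q))
    (Subsingleton.elim (α := EtCoh.H (S K) (EtCoh.const (S K) (ZMod p)) q) x₁ 0)).trans (Ext.zero_comp ..)

omit [Algebra.IsSeparable K N] [IsGalois K N] in
/-- If the `p`-primary finite sheaves have no cohomology in degree `q`, a `p`-primary class of a finite sheaf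
is zero after pushing along the inclusion. -/
theorem comp_eq_zero_of_fin (p : ℕ) [Fact p.Prime] {q : ℕ} [Algebra.IsSeparable K N]
    (hv : ∀ G : EtCoh.Ab (S K), Fin N G → (∀ s : EtCoh.sect G (O K N), ∃ a, p ^ a • s = 0) →
      ∀ x : EtCoh.H (S K) G q, x = 0)
    {G F : EtCoh.Ab (S K)} (hfin : Fin N G) (ι : G ⟶ F) (x' : EtCoh.H (S K) G q) (m : ℕ)
    (hm : p ^ m • x'.comp (Ext.mk₀ ι) (add_zero q) = 0) : x'.comp (Ext.mk₀ ι) (add_zero q) = 0 := by
  haveI := hfin.1
  obtain ⟨a, b, hb, hab⟩ := Nat.exists_eq_pow_mul_and_not_dvd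
    (Nat.card_pos (α := EtCoh.sect G (O K N))).ne' p (Fact.out : p.Prime).ne_one
  have h0 : (b • 𝟙 G) ≫ (p ^ a • 𝟙 G) = 0 := hfin.hom_eq_zero _ fun t => by
    refine (congrArg ((p ^ a • 𝟙 G).hom.app (op (O K N))) (nsmul_id_app G b _ t)).trans ?_
    rw [nsmul_id_app, ← mul_nsmul, mul_comm, ← hab]
    exact card_nsmul_eq_zero'
  let ν : G ⟶ kernel (p ^ a • 𝟙 G) := kernel.lift _ _ h0
  have hy := hv _ (hfin.kernel_nsmul (p ^ a)) (fun s => ⟨a, by
    apply injective_app_of_mono (kernel.ι (p ^ a • 𝟙 G))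
    rw [map_nsmul, map_zero, ← nsmul_id_app]
    exact ConcreteCategory.congr_hom
      (congrArg (fun m => m.hom.app (op (O K N))) (kernel.condition (p ^ a • 𝟙 G))) s⟩)
    (x'.comp (Ext.mk₀ ν) (add_zero q))
  have hbx : b • x'.comp (Ext.mk₀ ι) (add_zero q) = 0 := by
    have h1 : b • x' = (x'.comp (Ext.mk₀ ν) (add_zero q)).comp (Ext.mk₀ (kernel.ι _)) (add_zero q) := by
      rw [Ext.comp_assoc_of_third_deg_zero, Ext.mk₀_comp_mk₀, kernel.lift_ι, comp_mk₀_nsmul]
    rw [hy, Ext.zero_comp] at h1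
    rw [← comp_mk₀_nsmul, Ext.comp_assoc_of_third_deg_zero, Ext.mk₀_comp_mk₀, Preadditive.comp_nsmul,
      Category.comp_id, ← Category.id_comp ι, ← Preadditive.nsmul_comp, ← Ext.mk₀_comp_mk₀,
      ← Ext.comp_assoc_of_third_deg_zero, comp_mk₀_nsmul, h1, Ext.zero_comp]
  exact AddMonoid.addOrderOf_eq_one_iff.1 (Nat.eq_one_of_dvd_coprimes
    (Nat.Coprime.pow_left m ((Fact.out : p.Prime).coprime_iff_not_dvd.2 hb))
    (addOrderOf_dvd_of_nsmul_eq_zero hm) (addOrderOf_dvd_of_nsmul_eq_zero hbx))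

/-- `p`-primary classes with torsion coefficients vanish in degree `q`. -/
def Vanish (K : Type u) [Field K] (p q : ℕ) : Prop :=
  ∀ (F : EtCoh.Ab (S K)), EtCoh.IsTorsion F → ∀ x : EtCoh.H (S K) F q, (∃ m : ℕ, p ^ m • x = 0) → x = 0

theorem nsmul_id_const (p : ℕ) {X : Scheme.{u}} : p • 𝟙 (EtCoh.const X (ZMod p)) = 0 := by
  let A := AddCommGrpCat.of (ULift.{u + 1} (ZMod p))
  have h : p • 𝟙 A = 0 := by
    ext c
    have h' : ∀ n : ℕ, (n • 𝟙 A : A ⟶ A) c = n • c := fun n => by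
      induction n with
      | zero => rw [zero_nsmul, zero_nsmul]; rfl
      | succ n ih => rw [succ_nsmul, succ_nsmul, ← ih]; rfl
    refine (congrArg ULift.down (h' p)).trans ?_
    show p • c.down = (0 : ZMod p)
    rw [nsmul_eq_mul, ZMod.natCast_self, zero_mul]
  haveI : PreservesColimitsOfSize.{0, 0} (constantSheaf X.smallEtaleTopology AddCommGrpCat.{u + 1}) :=
    (EtCore.constAdj X).leftAdjoint_preservesColimits
  haveI : PreservesBinaryBiproducts (constantSheaf X.smallEtaleTopology AddCommGrpCat.{u + 1}) :=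
    preservesBinaryBiproducts_of_preservesBinaryCoproducts _
  haveI : (constantSheaf X.smallEtaleTopology AddCommGrpCat.{u + 1}).Additive :=
    Functor.additive_of_preservesBinaryBiproducts _
  have := congrArg ((constantSheaf X.smallEtaleTopology AddCommGrpCat.{u + 1}).map) h
  rw [Functor.map_nsmul, Functor.map_zero, CategoryTheory.Functor.map_id] at this
  exact this

theorem isTorsion_of_nsmul_id {X : Scheme.{u}} {G : EtCoh.Ab X} {n : ℕ} (hn : 0 < n) (h : n • 𝟙 G = 0) :
    EtCoh.IsTorsion G := fun U s x =>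
  ⟨U, 𝟙 U, ⟨x, rfl⟩, isOfFinAddOrder_iff_nsmul_eq_zero.2 ⟨n, hn, by
    rw [op_id, CategoryTheory.Functor.map_id, ConcreteCategory.id_apply, ← nsmul_id_app, h]
    rfl⟩⟩

/-- Over a field with pro-`p` group, degree `q` vanishing is detected on `ℤ/p`. -/
theorem vanish_of_subsingleton (p : ℕ) [Fact p.Prime]
    (hG : ∀ (N : Type u) [Field N] [Algebra K N], FiniteDimensional K N → IsGalois K N →
      IsPGroup p (N ≃ₐ[K] N)) (q : ℕ)
    (hZ : Subsingleton (EtCoh.H (S K) (EtCoh.const (S K) (ZMod p)) q)) : Vanish K p q := by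
  intro F hF x ⟨m, hm⟩
  obtain ⟨N, _, _, _, _, _, G, ι, -, hfin, x', rfl⟩ := exists_fin q F hF x
  exact comp_eq_zero_of_fin p
    (fun G hfin htor => vanish_pGroup p (hG N ‹_› ‹_›) q hZ _ G hfin rfl htor) hfin ι x' m hm

/-- Vanishing in degree `q` gives it for `ℤ/p` in degree `q + 1`. -/
theorem subsingleton_succ_of_vanish (p : ℕ) [Fact p.Prime] {q : ℕ} (h : Vanish K p q) :
    Subsingleton (EtCoh.H (S K) (EtCoh.const (S K) (ZMod p)) (q + 1)) := by
  refine subsingleton_of_forall_eq 0 fun x => ?_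
  obtain ⟨L, _, _, _, _, _, hL⟩ := exists_kill q _ x
  let F := EtCoh.const (S K) (ZMod p)
  let C := ShortComplex.mk ((η (jF K L)).app F) (cokernel.π _) (cokernel.condition _)
  have hC : C.ShortExact :=
    { exact := ShortComplex.exact_of_g_is_cokernel _ (cokernelIsCokernel _)
      mono_f := mono_η K L F
      epi_g := inferInstanceAs (Epi (cokernel.π ((η (jF K L)).app F))) }
  obtain ⟨y, rfl⟩ := Ext.covariant_sequence_exact₁ _ hC x (comp_η_eq_zero _ x hL) (n₀ := q) rfl
  have hp0 : p • 𝟙 C.X₂ = 0 := by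
    have := congrArg ((P (jF K L)).map) (nsmul_id_const p (X := S K))
    rw [Functor.map_nsmul, Functor.map_zero, CategoryTheory.Functor.map_id] at this
    exact this
  have hp3 : p • 𝟙 C.X₃ = 0 := by
    haveI : Epi C.g := hC.epi_g
    rw [← cancel_epi C.g, comp_zero, Preadditive.comp_nsmul, Category.comp_id, ← Category.id_comp C.g,
      ← Preadditive.nsmul_comp, hp0, zero_comp]
  rw [h C.X₃ (isTorsion_of_nsmul_id (Fact.out : p.Prime).pos hp3) y ⟨1, by
    rw [pow_one, ← comp_mk₀_nsmul, hp3, Ext.mk₀_zero, Ext.comp_zero]⟩]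
  exact Ext.zero_comp ..

end Groth.Agent.H61.FieldCoh
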