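import Groth.Agent.H61.FieldCoh.GmNorm
import Groth.Agent.H61.FieldCoh.General
import Groth.Agent.Lib.EtSite.Kummer
import Mathlib.RingTheory.RootsOfUnity.PrimitiveRoots

/-!
# The Kummer sequence `0 → ℤ/p → G_m → G_m → 0` given a primitive root of unity
-/

set_option autoImplicit false

universe u

open CategoryTheory CategoryTheory.Limits AlgebraicGeometry Opposite

namespace Groth.Agent.H61.FieldCoh

variable {K : Type u} [Field K]

/-- A section generating the `p`-torsion gives a short exact sequence `0 → ℤ/p → G → G → 0`. -/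
theorem exists_shortExact_nsmul {G : EtCoh.Ab (S K)} (p : ℕ) [Fact p.Prime] (f : G ⟶ G) (hf : f = p • 𝟙 G) [Epi f]
    (s : EtCoh.sect G (EtCoh.top (S K))) (hps : p • s = 0) (hs : s ≠ 0)
    (hgen : ∀ (M : Type u) [Field M] [Algebra K M] [FiniteDimensional K M] [Algebra.IsSeparable K M]
      [Algebra.Etale K M] (r : EtCoh.sect G (O K M)), p • r = 0 →
      ∃ i : ℕ, r = i • G.obj.map ((EtCore.topIsTerminal (S K)).from (O K M)).op s) :
    ∃ φ : EtCoh.const (S K) (ZMod p) ⟶ G, ∃ h : φ ≫ f = 0, (ShortComplex.mk φ f h).ShortExact := by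
  obtain ⟨φ, hφ, t, ht⟩ := exists_mono_const p s hps hs
  have h0 : φ ≫ f = 0 := by
    rw [hf, Preadditive.comp_nsmul, Category.comp_id, ← Category.id_comp φ, ← Preadditive.nsmul_comp,
      nsmul_id_const, zero_comp]
  haveI : Mono (cokernel.desc φ f h0) := by
    refine Preadditive.mono_of_cancel_zero _ fun {Z} a ha => hom_ext_fields a 0 fun F _ _ _ _ _ z => ?_
    obtain ⟨M, _, _, _, _, _, α, r, hr⟩ := exists_lift_fields (cokernel.π φ) (a.hom.app (op (O K F)) z)
    apply map_homO_injective _ α
    refine Eq.trans ?_ (map_zero ((cokernel φ).obj.map (homO α).op).hom).symm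
    rw [← hr]
    have hr0 : p • r = 0 := by
      have h1 : f.hom.app (op (O K M)) r =
          (cokernel.desc φ f h0).hom.app (op (O K M)) ((cokernel.π φ).hom.app (op (O K M)) r) :=
        (ConcreteCategory.congr_hom (congrArg (fun m : G ⟶ G => m.hom.app (op (O K M)))
          (cokernel.π_desc φ f h0)) r).symm
      rw [hr, NatTrans.naturality_apply (cokernel.desc φ f h0).hom (homO α).op] at h1
      refine (nsmul_id_app G p (O K M) r).symm.trans (Eq.trans (by rw [hf]) (h1.trans ?_))
      refine (congrArg (G.obj.map (homO α).op)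
        (ConcreteCategory.congr_hom (congrArg (fun m => m.hom.app (op (O K F))) ha) z)).trans ?_
      exact map_zero (G.obj.map (homO α).op).hom
    obtain ⟨i, hi⟩ := hgen M r hr0
    rw [hi, ← ht, map_nsmul, ← NatTrans.naturality_apply φ.hom]
    exact (congrArg (i • ·) (ConcreteCategory.congr_hom
      (congrArg (fun m => m.hom.app (op (O K M))) (cokernel.condition φ)) _)).trans (nsmul_zero i)
  exact ⟨φ, h0, { exact := (ShortComplex.mk φ f h0).exact_iff_mono_cokernel_desc.2 inferInstance
                  mono_f := hφ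
                  epi_g := inferInstanceAs (Epi f) }⟩

/-- Units as sections over `Spec M`. -/
noncomputable def gmO (M : Type u) [CommRing M] [Algebra K M] [Algebra.Etale K M] :
    Additive Mˣ →+ EtCoh.sect (EtCoh.Gm (S K)) (O K M) := gmUnit M

/-- Units as global sections. -/
noncomputable def gmTop : Additive Kˣ →+ EtCoh.sect (EtCoh.Gm (S K)) (EtCoh.top (S K)) := gmUnit K

theorem gmUnit_injective (R : Type u) [CommRing R] : Function.Injective (gmUnit R) := fun a b h =>
  Units.map_injective (f := (Scheme.ΓSpecIso (CommRingCat.of R)).inv.hom.toMonoidHom)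
    (ConcreteCategory.bijective_of_isIso (Scheme.ΓSpecIso (CommRingCat.of R)).inv).1
    (congrArg (fun z => z.down.toMul) h)

theorem gmTop_bijective : Function.Bijective (gmTop (K := K)) :=
  ⟨gmUnit_injective K, gmUnit_surjective K⟩

theorem gmO_bijective (M : Type u) [CommRing M] [Algebra K M] [Algebra.Etale K M] :
    Function.Bijective (gmO (K := K) M) :=
  ⟨gmUnit_injective M, gmUnit_surjective M⟩

theorem gmTop_map (M : Type u) [CommRing M] [Algebra K M] [Algebra.Etale K M] (u : Kˣ) :
    (EtCoh.Gm (S K)).obj.map ((EtCore.topIsTerminal (S K)).from (O K M)).op (gmTop (Additive.ofMul u)) =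
      gmO M (Additive.ofMul (Units.map (algebraMap K M).toMonoidHom u)) := by
  have h : ((EtCore.topIsTerminal (S K)).from (O K M)).left ≫ 𝟙 _ = 𝟙 _ ≫ jF K M :=
    MorphismProperty.Over.w ((EtCore.topIsTerminal (S K)).from (O K M))
  have htop : ((EtCore.topIsTerminal (S K)).from (O K M)).left = jF K M :=
    (Category.comp_id _).symm.trans (h.trans (Category.id_comp _))
  exact (congrArg (fun t : Spec (CommRingCat.of M) ⟶ S K =>
    EtCoh.ΓUnits.{u}.map t.op (gmUnit K (Additive.ofMul u))) htop).trans (gmUnit_map _ _)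

/-- The Kummer sequence with coefficients `ℤ/p`. -/
theorem exists_kummer (p : ℕ) [Fact p.Prime] (hp : (p : K) ≠ 0) {ζ : K} (hζ : IsPrimitiveRoot ζ p) :
    ∃ φ : EtCoh.const (S K) (ZMod p) ⟶ EtCoh.Gm (S K),
      ∃ h : φ ≫ EtCoh.powMap (S K) p = 0, (ShortComplex.mk φ (EtCoh.powMap (S K) p) h).ShortExact := by
  haveI : Epi (EtCoh.powMap (S K) p) := by
    refine Groth.Agent.Lib.EtSite.Kummer.epi_powMap (S K) p ?_
    have h := (IsUnit.mk0 _ hp).map (Scheme.ΓSpecIso (CommRingCat.of K)).inv.hom
    rwa [map_natCast] at h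
  let u := hζ.toRootsOfUnity
  refine exists_shortExact_nsmul p (EtCoh.powMap (S K) p) rfl (gmTop (Additive.ofMul (u : Kˣ))) ?_ ?_
    fun M _ _ _ _ _ r hr => ?_
  · rw [← map_nsmul, ← ofMul_pow, (mem_rootsOfUnity _ _).1 u.2, ofMul_one, map_zero]
  · rw [← map_zero (gmTop (K := K))]
    exact fun h => hζ.ne_one (Fact.out : p.Prime).one_lt
      (congrArg Units.val (congrArg Additive.toMul (gmTop_bijective.1 h)))
  · obtain ⟨w, rfl⟩ := (gmO_bijective M).2 r
    rw [← map_nsmul, ← map_zero (gmO (K := K) M)] at hr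
    have hwp : w.toMul ^ p = 1 := congrArg Additive.toMul ((gmO_bijective M).1 hr)
    obtain ⟨i, -, hi⟩ := (hζ.map_of_injective (f := algebraMap K M)
      (algebraMap K M).injective).eq_pow_of_pow_eq_one
      (ξ := (w.toMul : M)) (by rw [← Units.val_pow_eq_pow_val, hwp, Units.val_one])
    refine ⟨i, ?_⟩
    rw [gmTop_map, ← map_nsmul]
    refine congrArg (gmO M) ?_
    exact congrArg Additive.ofMul (Units.ext (by rw [Units.val_pow_eq_pow_val]; exact hi.symm))

end Groth.Agent.H61.FieldCoh
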