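import Groth.Agent.H61.FieldCoh.BrauerInd
import Groth.Agent.H61.FieldCoh.Kummer
import Mathlib.NumberTheory.Cyclotomic.Gal
import Mathlib.FieldTheory.Finite.Basic

/-!
# Surjective norms give `cd_p ≤ 1`
-/

set_option autoImplicit false

universe u

open CategoryTheory CategoryTheory.Limits CategoryTheory.Abelian AlgebraicGeometry Opposite

namespace Groth.Agent.H61.FieldCoh

variable {K : Type u} [Field K]

/-- `H²(K, ℤ/p) = 0`. -/
theorem subsingleton_H2_zmod (p : ℕ) [Fact p.Prime] (hp : (p : K) ≠ 0) (hK : NormSurj K p) :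
    Subsingleton (EtCoh.H (S K) (EtCoh.const (S K) (ZMod p)) 2) := by
  refine subsingleton_of_forall_eq 0 fun x => ?_
  haveI : NeZero (p : K) := ⟨hp⟩
  haveI : IsCyclotomicExtension {p} K (CyclotomicField p K) := inferInstance
  let E := CyclotomicField p K
  haveI : FiniteDimensional K E := IsCyclotomicExtension.finiteDimensional {p} K E
  haveI : IsGalois K E := IsCyclotomicExtension.isGalois {p} K E
  haveI := etale_of_finite K E
  have hdeg : ¬ p ∣ Module.finrank K E := by
    intro h
    have h1 : Module.finrank K E ∣ (Polynomial.cyclotomic p K).natDegree := by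
      rw [← IsGalois.card_aut_eq_finrank, Polynomial.natDegree_cyclotomic, ← ZMod.card_units_eq_totient,
        Fintype.card_eq_nat_card]
      exact Subgroup.card_dvd_of_injective _
        (IsPrimitiveRoot.autToPow_injective (K := K) (IsCyclotomicExtension.zeta_spec p K E))
    rw [Polynomial.natDegree_cyclotomic, Nat.totient_prime Fact.out] at h1
    have h2 := Nat.le_of_dvd (by have := (Fact.out : p.Prime).two_le; omega) (h.trans h1)
    have := (Fact.out : p.Prime).two_le
    omega
  obtain ⟨φ, h0, hS⟩ := exists_kummer (K := E) p (by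
    rw [← map_natCast (algebraMap K E)]
    exact fun h => hp ((algebraMap K E).injective (h.trans (map_zero _).symm)))
    (IsCyclotomicExtension.zeta_spec p K E)
  let e := (EtCore.pullConst (jF K E) (ZMod p)).hom
  let y := (EtCore.Hpull (jF K E) _ 2 x).comp (Ext.mk₀ e) (add_zero 2)
  have hy2 : y.comp (Ext.mk₀ φ) (add_zero 2) = 0 := by
    refine gm_eq_zero p (hK.ext E) _ 1 ?_
    rw [pow_one, ← comp_mk₀_nsmul, Ext.comp_assoc_of_third_deg_zero, Ext.mk₀_comp_mk₀]
    exact (congrArg (fun m => Ext.comp y (Ext.mk₀ m) (add_zero 2)) h0).trans (by rw [Ext.mk₀_zero, Ext.comp_zero])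
  obtain ⟨z, hz⟩ := Ext.covariant_sequence_exact₁ _ hS y hy2 (n₀ := 1) rfl
  haveI := Groth.Agent.Lib.EtH1Gm.HofPush.subsingleton_H1_field (K := E)
  have hy0 : y = 0 := hz.symm.trans ((congrArg (fun t => Ext.comp t hS.extClass rfl)
    (Subsingleton.elim (α := EtCoh.H (S E) (EtCoh.Gm (S E)) 1) z 0)).trans (Ext.zero_comp ..))
  have h1 : EtCore.Hpull (jF K E) _ 2 x = 0 := by
    have h' := congrArg (fun t => Ext.comp t (Ext.mk₀ (EtCore.pullConst (jF K E) (ZMod p)).inv) (add_zero 2)) hy0
    rw [Ext.comp_assoc_of_third_deg_zero, Ext.mk₀_comp_mk₀, Iso.hom_inv_id, Ext.comp_mk₀_id,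
      Ext.zero_comp] at h'
    exact h'
  have h2 : Module.finrank K E • x = 0 := finrank_nsmul_eq_zero K E ((Hpull_eq_zero_iff (jF K E) _ 2 x).1 h1)
  have h3 : p ^ 1 • x = 0 := by rw [pow_one, ← comp_mk₀_nsmul, nsmul_id_const, Ext.mk₀_zero, Ext.comp_zero]
  exact AddMonoid.addOrderOf_eq_one_iff.1 (Nat.eq_one_of_dvd_coprimes
    (Nat.Coprime.pow_left 1 ((Fact.out : p.Prime).coprime_iff_not_dvd.2 hdeg))
    (addOrderOf_dvd_of_nsmul_eq_zero h3) (addOrderOf_dvd_of_nsmul_eq_zero h2))

/-- Norm surjectivity gives `cd_p ≤ 1` (`p` invertible). -/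
theorem vanish_of_normSurj (p : ℕ) [Fact p.Prime] (hp : (p : K) ≠ 0) (hK : NormSurj K p) {q : ℕ} (hq : 1 < q) :
    Vanish K p q :=
  vanish_above p 1 (fun L _ _ hf hs => by
    haveI := hf
    haveI := hs
    exact subsingleton_H2_zmod p (fun h => hp ((algebraMap K L).injective (by
      rw [map_natCast, map_zero]
      exact h))) (hK.ext L)) q hq

end Groth.Agent.H61.FieldCoh
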