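import Groth.Agent.H61.FieldCoh.GmNorm
import Groth.Agent.H61.FieldCoh.General
import Groth.Agent.H61.HpullFunct
import Mathlib.GroupTheory.Sylow
import Mathlib.GroupTheory.IndexNormal
import Mathlib.FieldTheory.Finite.Basic

/-!
# Surjective norms in cyclic extensions of degree `p` kill `p`-primary Brauer classes

* `NormSurj K p`: norms are surjective for all cyclic degree `p` extensions of finite separable extensions.
* `gm_eq_zero`: then `p`-primary classes in `H²(K, G_m)` vanish.
* `subsingleton_H2_zmod`: then `H²(K, ℤ/p) = 0` (`p` invertible in `K`).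
-/

set_option autoImplicit false

universe u

open CategoryTheory CategoryTheory.Limits CategoryTheory.Abelian AlgebraicGeometry Opposite

namespace Groth.Agent.H61.FieldCoh

open Groth.Agent.Lib.EtJ

/-- Norm surjectivity for the cyclic degree `p` extensions over finite separable extensions of `K`. -/
def NormSurj (K : Type u) [Field K] (p : ℕ) : Prop :=
  ∀ (E : Type u) [Field E] [Algebra K E], FiniteDimensional K E → Algebra.IsSeparable K E →
    ∀ (M : Type u) [Field M] [Algebra E M], FiniteDimensional E M → IsGalois E M → Module.finrank E M = p →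
      ∀ c : E, c ≠ 0 → ∃ y : M, Algebra.norm E y = c

theorem NormSurj.ext {K : Type u} [Field K] {p : ℕ} (h : NormSurj K p) (E : Type u) [Field E] [Algebra K E]
    [FiniteDimensional K E] [Algebra.IsSeparable K E] : NormSurj E p := by
  intro E' _ _ hf hs
  haveI := hf
  haveI := hs
  letI : Algebra K E' := ((algebraMap E E').comp (algebraMap K E)).toAlgebra
  haveI : IsScalarTower K E E' := IsScalarTower.of_algebraMap_eq fun x => rfl
  exact h E' (Module.Finite.trans E E') (Algebra.IsSeparable.trans K E E')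

variable {K : Type u} [Field K]

/-- `G_m` restricts to `G_m`. -/
noncomputable def gmPull (E : Type u) [Field E] [Algebra K E] [Algebra.Etale K E] :
    (EtCoh.pull (jF K E)).obj (EtCoh.Gm (S K)) ≅ EtCoh.Gm (S E) :=
  (Basic.pullIsoRestr (jF K E)).app _ ≪≫
    (sheafToPresheaf _ _).preimageIso (NatIso.ofComponents (fun V => Iso.refl _) (fun g => by rfl))

/-- A class and its restriction to an intermediate field. -/
theorem exists_restrict {E N : Type u} [Field E] [Algebra K E] [Algebra.Etale K E] [Field N] [Algebra K N]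
    [Algebra.Etale K N] [Algebra E N] [IsScalarTower K E N] [Algebra.Etale E N]
    (x : EtCoh.H (S K) (EtCoh.Gm (S K)) 2) (hx : (Ext.mk₀ (aug (jF K N))).comp x (zero_add 2) = 0) :
    ∃ y : EtCoh.H (S E) (EtCoh.Gm (S E)) 2, (Ext.mk₀ (aug (jF E N))).comp y (zero_add 2) = 0 ∧
      (y = 0 → (Ext.mk₀ (aug (jF K E))).comp x (zero_add 2) = 0) ∧
      ∀ n : ℕ, n • x = 0 → n • y = 0 := by
  let e := (gmPull (K := K) E).hom
  refine ⟨(EtCore.Hpull (jF K E) _ 2 x).comp (Ext.mk₀ e) (add_zero 2), ?_, fun h => ?_, fun n hn => ?_⟩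
  · refine (Hpull_eq_zero_iff (jF E N) (EtCoh.Gm (S E)) 2 _).1 ?_
    have h0 : EtCore.Hpull (jF E N) _ 2 (EtCore.Hpull (jF K E) (EtCoh.Gm (S K)) 2 x) = 0 := by
      have hh := Groth.Agent.H61.HpullFunct.HpullVia_Hpull (jF E N) (jF K E) (jF K N) (comp_jF E N)
        (EtCoh.Gm (S K)) 2 x
      rw [(Hpull_eq_zero_iff (jF K N) (EtCoh.Gm (S K)) 2 x).2 hx, EtCore.HpullVia] at hh
      have hm : Mono ((EtCoh.HF (S N) 2).map (((EtCore.pullComp (jF E N) (jF K E)).symm ≪≫
          EtCore.pullCongr (comp_jF E N)).app (EtCoh.Gm (S K))).hom) := inferInstance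
      exact (AddCommGrpCat.mono_iff_injective _).1 hm (hh.trans (map_zero _).symm)
    refine (Groth.Agent.H61.HpullFunct.Hpull_map (f := jF E N) e 2 (EtCore.Hpull (jF K E) _ 2 x)).trans ?_
    exact (congrArg _ h0).trans (map_zero _)
  · refine (Hpull_eq_zero_iff (jF K E) (EtCoh.Gm (S K)) 2 x).1 ?_
    have h' := congrArg (fun t => Ext.comp t (Ext.mk₀ (gmPull (K := K) E).inv) (add_zero 2)) h
    rw [Ext.comp_assoc_of_third_deg_zero, Ext.mk₀_comp_mk₀, Iso.hom_inv_id, Ext.comp_mk₀_id,
      Ext.zero_comp] at h'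
    exact h'
  · have h1 : n • EtCore.Hpull (jF K E) (EtCoh.Gm (S K)) 2 x = 0 := by rw [← map_nsmul, hn, map_zero]
    rw [← comp_mk₀_nsmul, Ext.comp_assoc_of_third_deg_zero, Ext.mk₀_comp_mk₀, Preadditive.comp_nsmul,
      Category.comp_id, ← Category.id_comp e, ← Preadditive.nsmul_comp, ← Ext.mk₀_comp_mk₀,
      ← Ext.comp_assoc_of_third_deg_zero, comp_mk₀_nsmul]
    exact (congrArg (fun t => Ext.comp t (Ext.mk₀ e) (add_zero 2)) h1).trans (Ext.zero_comp ..)

/-- Induction along a `p`-group. -/
theorem gm_eq_zero_pGroup (p : ℕ) [Fact p.Prime] : ∀ (n : ℕ) (K : Type u) [Field K], NormSurj K p →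
    ∀ (N : Type u) [Field N] [Algebra K N] [FiniteDimensional K N] [IsGalois K N] [Algebra.Etale K N],
      IsPGroup p (N ≃ₐ[K] N) → Module.finrank K N = p ^ n →
      ∀ y : EtCoh.H (S K) (EtCoh.Gm (S K)) 2, (Ext.mk₀ (aug (jF K N))).comp y (zero_add 2) = 0 → y = 0 := by
  intro n
  induction n with
  | zero =>
    intro K _ _ N _ _ _ _ _ _ hn y hy
    have h := finrank_nsmul_eq_zero K N hy
    rwa [hn, pow_zero, one_nsmul] at h
  | succ n ih =>
    intro K _ hK N _ _ _ _ _ hP hn y hy
    have hcard : Nat.card (N ≃ₐ[K] N) = p ^ (n + 1) := by rw [IsGalois.card_aut_eq_finrank, hn]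
    obtain ⟨H, hH⟩ := Sylow.exists_subgroup_card_pow_prime p (n := n)
      (hcard ▸ pow_dvd_pow p (Nat.le_succ n))
    have hidx : H.index = p := by
      have h := H.card_mul_index
      rw [hH, hcard, pow_succ] at h
      exact Nat.eq_of_mul_eq_mul_left (pow_pos (Fact.out : p.Prime).pos n) h
    haveI : H.Normal := Subgroup.normal_of_index_eq_minFac_card (by
      rw [hidx, hcard, Nat.pow_minFac (Nat.succ_ne_zero n), (Fact.out : p.Prime).minFac_eq])
    let E := IntermediateField.fixedField H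
    haveI : Algebra.IsSeparable K E := Algebra.isSeparable_tower_bot_of_isSeparable K E N
    haveI : IsGalois K E := IsGalois.of_fixedField_normal_subgroup H
    haveI := etale_of_finite K E
    haveI := etale_of_finite E N
    have hEN : Module.finrank E N = p ^ n := by rw [IntermediateField.finrank_fixedField_eq_card, hH]
    have hKE : Module.finrank K E = p := by
      have h := Module.finrank_mul_finrank K E N
      rw [hEN, hn, pow_succ, mul_comm (p ^ n)] at h
      exact Nat.eq_of_mul_eq_mul_right (pow_pos (Fact.out : p.Prime).pos n) h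
    obtain ⟨z, hz, hz', -⟩ := exists_restrict (E := E) (N := N) y hy
    have h0 : (Ext.mk₀ (aug (jF K E))).comp y (zero_add 2) = 0 :=
      hz' (ih E (hK.ext E) N (IsPGroup.of_card (n := n) (by rw [IsGalois.card_aut_eq_finrank, hEN])) hEN z hz)
    haveI : IsCyclic (E ≃ₐ[K] E) := isCyclic_of_prime_card (p := p) (by rw [IsGalois.card_aut_eq_finrank, hKE])
    obtain ⟨σ, hσ⟩ := IsCyclic.exists_generator (α := E ≃ₐ[K] E)
    exact gm_eq_zero_of_cyclic hσ (fun c hc => hK K inferInstance inferInstance E inferInstance inferInstance hKE c hc)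
      y h0

/-- `p`-primary Brauer classes vanish. -/
theorem gm_eq_zero (p : ℕ) [Fact p.Prime] (hK : NormSurj K p) (x : EtCoh.H (S K) (EtCoh.Gm (S K)) 2)
    (m : ℕ) (hm : p ^ m • x = 0) : x = 0 := by
  obtain ⟨L₀, _, _, _, _, _, hL₀⟩ := exists_kill 1 (EtCoh.Gm (S K)) x
  obtain ⟨N, _, _, _, _, _, hN⟩ := exists_galois_receiving (K := K) (fun _ : Unit => L₀)
  obtain ⟨ψ₀⟩ := hN ()
  have hx : (Ext.mk₀ (aug (jF K N))).comp x (zero_add 2) = 0 :=
    mk₀_aug_comp_eq_zero (jF K L₀) (jF K N) (homO ψ₀) hL₀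
  obtain ⟨P⟩ : Nonempty (Sylow p (N ≃ₐ[K] N)) := inferInstance
  let E := IntermediateField.fixedField P.toSubgroup
  haveI : Algebra.IsSeparable K E := Algebra.isSeparable_tower_bot_of_isSeparable K E N
  haveI := etale_of_finite K E
  haveI := etale_of_finite E N
  obtain ⟨c, hc⟩ := IsPGroup.iff_card.1 P.isPGroup'
  have hEN : Module.finrank E N = p ^ c := by
    rw [IntermediateField.finrank_fixedField_eq_card]
    exact hc
  have hcop : ¬ p ∣ Module.finrank K E := by
    have h1 : Module.finrank K E * Module.finrank E N = Module.finrank K N := Module.finrank_mul_finrank K E N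
    rw [IntermediateField.finrank_fixedField_eq_card, ← IsGalois.card_aut_eq_finrank K N,
      ← P.toSubgroup.index_mul_card] at h1
    rw [mul_right_cancel₀ Nat.card_pos.ne' h1]
    exact P.not_dvd_index
  obtain ⟨z, hz, hz', -⟩ := exists_restrict (E := E) (N := N) x hx
  have h2 : Module.finrank K E • x = 0 := finrank_nsmul_eq_zero K E (hz' (gm_eq_zero_pGroup p c E (hK.ext E) N
    (IsPGroup.of_card (n := c) (by rw [IsGalois.card_aut_eq_finrank, hEN])) hEN z hz))
  exact AddMonoid.addOrderOf_eq_one_iff.1 (Nat.eq_one_of_dvd_coprimes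
    (Nat.Coprime.pow_left m ((Fact.out : p.Prime).coprime_iff_not_dvd.2 hcop))
    (addOrderOf_dvd_of_nsmul_eq_zero hm) (addOrderOf_dvd_of_nsmul_eq_zero h2))

end Groth.Agent.H61.FieldCoh
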