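import Groth.Agent.H61.FieldCoh.Kill

/-!
# `V ×_L M` for a finite Galois extension `M/L`: projections, twists, points

* `W M V`, `q M V`: `V ×_L M` and its projection to `Spec M`; `hom_ext_W`.
* `twEnd`: the endomorphism of `P G` given by an automorphism of `M`.
* `pt ψ`, `coord ψ`: the points of `Spec N ×_L M`; `coord_bijective`.
-/

set_option autoImplicit false

universe u

open CategoryTheory CategoryTheory.Limits AlgebraicGeometry Opposite

namespace Groth.Agent.H61.FieldCoh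

open Groth.Agent.Lib.EtJ

variable {L : Type u} [Field L] (M : Type u) [Field M] [Algebra L M] [Algebra.Etale L M]

/-- `V ×_L M`. -/
noncomputable abbrev W (V : (S L).Etale) : (S L).Etale :=
  (EtShriek.compEtale (jF L M)).obj ((EtCoh.bc (jF L M)).obj V)

/-- The projection to `Spec M`. -/
noncomputable def q (V : (S L).Etale) : W M V ⟶ O L M :=
  MorphismProperty.Over.homMk (pullback.snd V.hom (jF L M))
    (show pullback.snd V.hom (jF L M) ≫ 𝟙 _ ≫ jF L M = pullback.snd V.hom (jF L M) ≫ jF L M by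
      rw [Category.id_comp])

theorem proj_left (V : (S L).Etale) :
    (proj (jF L M) V).left = (pullback.fst V.hom (jF L M) : pullback V.hom (jF L M) ⟶ V.left) := by
  simp [proj, Basic.compEtaleAdj, MorphismProperty.Over.mapPullbackAdj]

variable {M}

theorem hom_ext_W {V Z : (S L).Etale} {a b : Z ⟶ W M V}
    (h₁ : a ≫ proj (jF L M) V = b ≫ proj (jF L M) V) (h₂ : a ≫ q M V = b ≫ q M V) : a = b := by
  refine MorphismProperty.Over.Hom.ext (pullback.hom_ext ?_ ?_)
  · have h := congrArg (fun m => m.left) h₁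
    exact (congrArg (a.left ≫ ·) (proj_left M V)).symm.trans (h.trans (congrArg (b.left ≫ ·) (proj_left M V)))
  · exact congrArg (fun m => m.left) h₂

theorem exists_hom_W {V Z : (S L).Etale} (x : Z ⟶ V) (y : Z ⟶ O L M) :
    ∃ a : Z ⟶ W M V, a ≫ proj (jF L M) V = x ∧ a ≫ q M V = y := by
  let xl : Z.left ⟶ V.left := x.left
  let yl : Z.left ⟶ Spec (CommRingCat.of M) := y.left
  have hx : xl ≫ V.hom = Z.hom := MorphismProperty.Over.w x
  have hy : yl ≫ jF L M = Z.hom := by
    refine Eq.trans ?_ (MorphismProperty.Over.w y)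
    exact congrArg (yl ≫ ·) (Category.id_comp (jF L M)).symm
  refine ⟨MorphismProperty.Over.homMk (pullback.lift xl yl (hx.trans hy.symm))
    (show pullback.lift xl yl _ ≫ pullback.snd _ _ ≫ jF L M = Z.hom by
      rw [← Category.assoc, pullback.lift_snd, hy]), ?_, ?_⟩
  · refine MorphismProperty.Over.Hom.ext ?_
    exact (congrArg (pullback.lift xl yl (hx.trans hy.symm) ≫ ·) (proj_left M V)).trans (pullback.lift_fst _ _ _)
  · exact MorphismProperty.Over.Hom.ext (pullback.lift_snd _ _ _)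

/-- The twist of `V ×_L M` by an automorphism. -/
noncomputable def tw (σ : M ≃ₐ[L] M) (V : (S L).Etale) : W M V ⟶ W M V :=
  (exists_hom_W (proj (jF L M) V) (q M V ≫ homO σ.toAlgHom)).choose

theorem tw_proj (σ : M ≃ₐ[L] M) (V : (S L).Etale) : tw σ V ≫ proj (jF L M) V = proj (jF L M) V :=
  (exists_hom_W (proj (jF L M) V) (q M V ≫ homO σ.toAlgHom)).choose_spec.1

theorem tw_q (σ : M ≃ₐ[L] M) (V : (S L).Etale) : tw σ V ≫ q M V = q M V ≫ homO σ.toAlgHom :=
  (exists_hom_W (proj (jF L M) V) (q M V ≫ homO σ.toAlgHom)).choose_spec.2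

theorem proj_natural {V V' : (S L).Etale} (g : V' ⟶ V) :
    (EtShriek.compEtale (jF L M)).map ((EtCoh.bc (jF L M)).map g) ≫ proj (jF L M) V =
      proj (jF L M) V' ≫ g :=
  (Basic.compEtaleAdj (jF L M)).counit.naturality g

theorem q_natural {V V' : (S L).Etale} (g : V' ⟶ V) :
    (EtShriek.compEtale (jF L M)).map ((EtCoh.bc (jF L M)).map g) ≫ q M V = q M V' := by
  refine MorphismProperty.Over.Hom.ext ?_
  show ((EtCoh.bc (jF L M)).map g).left ≫ pullback.snd V.hom (jF L M) = pullback.snd V'.hom (jF L M)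
  dsimp [EtCoh.bc]
  exact pullback.lift_snd _ _ _

/-- The endomorphism of `P G` given by an automorphism of `M`. -/
noncomputable def twEnd (σ : M ≃ₐ[L] M) (G : EtCoh.Ab (S L)) :
    (P (jF L M)).obj G ⟶ (P (jF L M)).obj G :=
  ObjectProperty.homMk
    { app := fun V => G.obj.map (tw σ V.unop).op
      naturality := fun V V' g => by
        show G.obj.map ((EtShriek.compEtale (jF L M)).map ((EtCoh.bc (jF L M)).map g.unop)).op ≫
            G.obj.map (tw σ V'.unop).op =
          G.obj.map (tw σ V.unop).op ≫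
            G.obj.map ((EtShriek.compEtale (jF L M)).map ((EtCoh.bc (jF L M)).map g.unop)).op
        rw [← Functor.map_comp, ← Functor.map_comp, ← op_comp, ← op_comp]
        refine congrArg (fun a => G.obj.map (Quiver.Hom.op a)) (hom_ext_W ?_ ?_)
        · simp only [Category.assoc, proj_natural, tw_proj]
          rw [← Category.assoc, tw_proj]
        · simp only [Category.assoc, tw_q, q_natural]
          rw [← Category.assoc, q_natural] }

theorem twEnd_app (σ : M ≃ₐ[L] M) (G : EtCoh.Ab (S L)) (V : (S L).Etale) (s : EtCoh.sect G (W M V)) :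
    (twEnd σ G).hom.app (op V) s = G.obj.map (tw σ V).op s := rfl

variable {N : Type u} [Field N] [Algebra L N] [Algebra.Etale L N]

/-- A point of `Spec N ×_L M`. -/
noncomputable def pt (ψ : M →ₐ[L] N) : O L N ⟶ W M (O L N) :=
  (exists_hom_W (𝟙 (O L N)) (homO ψ)).choose

theorem pt_proj (ψ : M →ₐ[L] N) : pt ψ ≫ proj (jF L M) (O L N) = 𝟙 _ :=
  (exists_hom_W (𝟙 (O L N)) (homO ψ)).choose_spec.1

theorem pt_q (ψ : M →ₐ[L] N) : pt ψ ≫ q M (O L N) = homO ψ :=
  (exists_hom_W (𝟙 (O L N)) (homO ψ)).choose_spec.2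

theorem pt_tw (ψ : M →ₐ[L] N) (σ : M ≃ₐ[L] M) :
    pt ψ ≫ tw σ (O L N) = pt (ψ.comp σ.toAlgHom) := by
  refine hom_ext_W ?_ ?_
  · rw [Category.assoc, tw_proj, pt_proj, pt_proj]
  · rw [Category.assoc, tw_q, ← Category.assoc, pt_q, pt_q, homO_comp]

/-- The coordinate at `ψ`. -/
noncomputable def coord (G : EtCoh.Ab (S L)) (ψ : M →ₐ[L] N) :
    EtCoh.sect G (W M (O L N)) →+ EtCoh.sect G (O L N) :=
  (G.obj.map (pt ψ).op).hom

theorem coord_twEnd (G : EtCoh.Ab (S L)) (ψ : M →ₐ[L] N) (σ : M ≃ₐ[L] M) (v : EtCoh.sect G (W M (O L N))) :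
    coord G ψ ((twEnd σ G).hom.app (op (O L N)) v) = coord G (ψ.comp σ.toAlgHom) v := by
  show G.obj.map (pt ψ).op (G.obj.map (tw σ (O L N)).op v) = _
  rw [map_map, pt_tw]
  rfl

theorem coord_η (G : EtCoh.Ab (S L)) (ψ : M →ₐ[L] N) (s : EtCoh.sect G (O L N)) :
    coord G ψ (((η (jF L M)).app G).hom.app (op (O L N)) s) = s := by
  rw [η_app]
  show G.obj.map (pt ψ).op (G.obj.map (proj (jF L M) (O L N)).op s) = s
  rw [map_map, pt_proj, op_id, CategoryTheory.Functor.map_id, ConcreteCategory.id_apply]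

theorem coord_map (G : EtCoh.Ab (S L)) (ψ : M →ₐ[L] N) (m : EtCoh.sect G (O L M)) :
    coord G ψ (G.obj.map (q M (O L N)).op m) = G.obj.map (homO ψ).op m := by
  show G.obj.map (pt ψ).op (G.obj.map (q M (O L N)).op m) = _
  rw [map_map, pt_q]

variable [FiniteDimensional L M] [IsGalois L M]

/-- The points cover. -/
theorem pt_covers (ψ₀ : M →ₐ[L] N) (z : (W M (O L N)).left) :
    ∃ (τ : M ≃ₐ[L] M) (p : (O L N).left), (pt (ψ₀.comp τ.toAlgHom)).left.base p = z := by
  obtain ⟨F, _, _, _, _, _, a, p, hp⟩ := exists_field_point' (W M (O L N)) z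
  obtain ⟨θ, hθ⟩ := exists_homO (a ≫ proj (jF L M) (O L N))
  obtain ⟨κ, hκ⟩ := exists_homO (a ≫ q M (O L N))
  obtain ⟨τ, hτ⟩ := exists_aut (θ.comp ψ₀) κ
  refine ⟨τ, (homO θ).left.base p, Eq.trans ?_ hp⟩
  have e : homO θ ≫ pt (ψ₀.comp τ.toAlgHom) = a := by
    refine hom_ext_W ?_ ?_
    · rw [Category.assoc, pt_proj, Category.comp_id, hθ]
    · rw [Category.assoc, pt_q, homO_comp, ← hκ,
        show θ.comp (ψ₀.comp τ.toAlgHom) = κ from AlgHom.ext fun y => hτ y]
  exact congrArg (fun m => m.left.base p) e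

theorem coord_ext (G : EtCoh.Ab (S L)) (ψ₀ : M →ₐ[L] N) {v w : EtCoh.sect G (W M (O L N))}
    (h : ∀ τ : M ≃ₐ[L] M, coord G (ψ₀.comp τ.toAlgHom) v = coord G (ψ₀.comp τ.toAlgHom) w) : v = w :=
  sections_ext G (fun _ : M ≃ₐ[L] M => O L N) (fun τ => pt (ψ₀.comp τ.toAlgHom))
    (fun z => pt_covers ψ₀ z) v w h

/-- Every family of coordinates is realised. -/
theorem coord_surjective (G : EtCoh.Ab (S L)) (ψ₀ : M →ₐ[L] N) (f : (M ≃ₐ[L] M) → EtCoh.sect G (O L N)) :
    ∃ v, ∀ τ : M ≃ₐ[L] M, coord G (ψ₀.comp τ.toAlgHom) v = f τ := by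
  have hQ : Presieve.IsSheaf (S L).smallEtaleTopology (G.obj ⋙ forget AddCommGrpCat.{u + 1}) :=
    (isSheaf_iff_isSheaf_of_type _ _).1
      ((sheafCompose (S L).smallEtaleTopology (forget AddCommGrpCat.{u + 1})).obj G).property
  have hsf := hQ _ (Groth.Agent.Lib.EtSite.Basic.ofArrows_mem (fun _ : M ≃ₐ[L] M => O L N)
    (fun τ => pt (ψ₀.comp τ.toAlgHom)) (fun z => pt_covers ψ₀ z))
  rw [Sieve.ofArrows, ← Presieve.isSheafFor_iff_generate, Presieve.isSheafFor_arrows_iff] at hsf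
  obtain ⟨v, hv, -⟩ := hsf f (fun τ₁ τ₂ Z a₁ a₂ h => by
    show G.obj.map a₁.op (f τ₁) = G.obj.map a₂.op (f τ₂)
    refine ext_fields G _ _ fun F _ _ _ _ _ b => ?_
    have h1 := congrArg (fun m => b ≫ m ≫ proj (jF L M) (O L N)) h
    have h2 := congrArg (fun m => b ≫ m ≫ q M (O L N)) h
    simp only [Category.assoc, pt_proj, Category.comp_id, pt_q] at h1 h2
    obtain ⟨θ, hθ⟩ := exists_homO (b ≫ a₁)
    rw [← Category.assoc, ← Category.assoc, ← hθ, homO_comp, show b ≫ a₂ = homO θ from h1.symm.trans hθ.symm,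
      homO_comp] at h2
    have e : τ₁ = τ₂ := by
      have h3 := congrArg (fun m => m.left) h2
      have h4 := Spec.map_injective h3
      refine AlgEquiv.ext fun y => (θ.comp ψ₀).toRingHom.injective ?_
      exact ConcreteCategory.congr_hom h4 y
    subst e
    rw [map_map, map_map, h1])
  exact ⟨v, hv⟩

end Groth.Agent.H61.FieldCoh
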