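import Groth.Agent.H61.FieldCoh.CycPoints
import Groth.Agent.H61.FieldCoh.Continuity
import Mathlib.GroupTheory.OrderOfElement

/-!
# The cyclic exact sequence `0 → G → P G → P G → G → 0`

For a cyclic extension `M/L` with trace `ν : P G ⟶ G`, a class in `H²(L, G)` dying on `M` vanishes when
`H¹(L, P G) = 0` and `ν` is surjective on global sections.
-/

set_option autoImplicit false

universe u

open CategoryTheory CategoryTheory.Limits CategoryTheory.Abelian AlgebraicGeometry Opposite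

namespace Groth.Agent.H61.FieldCoh

open Groth.Agent.Lib.EtJ

theorem const_of_comp {Γ : Type*} [Group Γ] [Finite Γ] {A : Type*} (σ : Γ) (hσ : ∀ τ : Γ, τ ∈ Subgroup.zpowers σ)
    (f : Γ → A) (h : ∀ τ, f (τ * σ) = f τ) (τ : Γ) : f τ = f 1 := by
  obtain ⟨n, rfl⟩ := mem_powers_iff_mem_zpowers.2 (hσ τ)
  induction n with
  | zero => simp
  | succ n ih =>
    show f (σ ^ (n + 1)) = f 1
    rw [pow_succ, h]
    exact ih

/-- Functions with zero sum on a finite cyclic group are differences. -/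
theorem exists_diff {Γ : Type*} [Group Γ] [Fintype Γ] {A : Type*} [AddCommGroup A] (σ : Γ)
    (hσ : ∀ τ : Γ, τ ∈ Subgroup.zpowers σ) (f : Γ → A) (hf : ∑ τ, f τ = 0) :
    ∃ u : Γ → A, ∀ τ, f τ = u (τ * σ) - u τ := by
  let n := orderOf σ
  have hb : Function.Bijective fun k : _root_.Fin n => σ ^ (k : ℕ) := by
    refine ⟨fun a b h => Fin.ext (pow_injOn_Iio_orderOf a.2 b.2 h), fun τ => ?_⟩
    obtain ⟨m, rfl⟩ := mem_powers_iff_mem_zpowers.2 (hσ τ)
    exact ⟨⟨m % n, Nat.mod_lt _ (orderOf_pos σ)⟩, pow_mod_orderOf σ m⟩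
  let i := Equiv.ofBijective _ hb
  have hi : ∀ k : _root_.Fin n, i.symm (σ ^ (k : ℕ)) = k := fun k => i.symm_apply_apply k
  let u : Γ → A := fun τ => ∑ j ∈ Finset.range (i.symm τ : ℕ), f (σ ^ j)
  have hu : ∀ k : ℕ, k < n → u (σ ^ k) = ∑ j ∈ Finset.range k, f (σ ^ j) := fun k hk => by
    show ∑ j ∈ Finset.range (i.symm (σ ^ k) : ℕ), f (σ ^ j) = _
    rw [hi ⟨k, hk⟩]
  have hsum : ∑ j ∈ Finset.range n, f (σ ^ j) = 0 := by
    rw [← Fin.sum_univ_eq_sum_range fun j => f (σ ^ j)]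
    exact (hb.sum_comp f).trans hf
  refine ⟨u, fun τ => ?_⟩
  obtain ⟨⟨k, hk⟩, rfl⟩ := hb.2 τ
  show f (σ ^ k) = u (σ ^ k * σ) - u (σ ^ k)
  rw [← pow_succ, hu k hk]
  rcases Nat.lt_or_ge (k + 1) n with h | h
  · rw [hu _ h, Finset.sum_range_succ, add_sub_cancel_left]
  · have e : k + 1 = n := le_antisymm hk h
    have h0 := hu 0 (orderOf_pos σ)
    rw [pow_zero, Finset.sum_range_zero] at h0
    rw [e, pow_orderOf_eq_one, h0, zero_sub, eq_neg_iff_add_eq_zero, add_comm, ← Finset.sum_range_succ, e,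
      hsum]

variable {L : Type u} [Field L] {M : Type u} [Field M] [Algebra L M] [FiniteDimensional L M] [IsGalois L M]
  [Algebra.Etale L M] (G : EtCoh.Ab (S L))

/-- The sum of all twists. -/
noncomputable def T : (P (jF L M)).obj G ⟶ (P (jF L M)).obj G := ∑ τ : M ≃ₐ[L] M, twEnd τ G

theorem coord_T {N : Type u} [Field N] [Algebra L N] [Algebra.Etale L N] (ψ : M →ₐ[L] N)
    (v : EtCoh.sect G (W M (O L N))) :
    coord G ψ ((T G).hom.app (op (O L N)) v) = ∑ τ : M ≃ₐ[L] M, coord G (ψ.comp τ.toAlgHom) v := by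
  let φ : ((P (jF L M)).obj G ⟶ (P (jF L M)).obj G) →+ EtCoh.sect G (O L N) :=
    AddMonoidHom.mk' (fun m => coord G ψ (m.hom.app (op (O L N)) v)) fun a b => by
      refine (congrArg (coord G ψ) (?_ : _ = a.hom.app (op (O L N)) v + b.hom.app (op (O L N)) v)).trans
        (map_add (coord G ψ) _ _)
      rfl
  refine (map_sum φ _ Finset.univ).trans (Finset.sum_congr rfl fun τ _ => ?_)
  exact coord_twEnd G ψ τ v

theorem exists_eq_η {N : Type u} [Field N] [Algebra L N] [Algebra.Etale L N] (ψ : M →ₐ[L] N)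
    {v : EtCoh.sect G (W M (O L N))} {g : EtCoh.sect G (O L N)}
    (h : ∀ τ : M ≃ₐ[L] M, coord G (ψ.comp τ.toAlgHom) v = g) :
    ((η (jF L M)).app G).hom.app (op (O L N)) g = v :=
  coord_ext G ψ fun τ => by rw [coord_η, h]

theorem T_comp_cokernel : T G ≫ cokernel.π ((η (jF L M)).app G) = 0 := by
  refine hom_ext_fields _ _ fun F _ _ _ _ _ s => ?_
  obtain ⟨N, _, _, _, _, _, ⟨α⟩, ⟨ψ⟩⟩ := exists_common (K := L) F M
  apply map_homO_injective _ α
  rw [← NatTrans.naturality_apply (T G ≫ cokernel.π ((η (jF L M)).app G)).hom (homO α).op s]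
  refine Eq.trans ?_ (map_zero ((cokernel ((η (jF L M)).app G)).obj.map (homO α).op).hom).symm
  let v := ((P (jF L M)).obj G).obj.map (homO α).op s
  show (cokernel.π ((η (jF L M)).app G)).hom.app (op (O L N)) ((T G).hom.app (op (O L N)) v) = 0
  rw [← exists_eq_η G ψ (v := (T G).hom.app (op (O L N)) v) (g := ∑ τ : M ≃ₐ[L] M, coord G (ψ.comp τ.toAlgHom) v) (fun τ' => by
    rw [coord_T]
    exact Fintype.sum_equiv (Equiv.mulLeft τ') _ _ fun τ => rfl)]
  exact ConcreteCategory.congr_hom (congrArg (fun m => m.hom.app (op (O L N)))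
    (cokernel.condition ((η (jF L M)).app G))) _

/-- The trace `P G ⟶ G`. -/
noncomputable def ν : (P (jF L M)).obj G ⟶ G :=
  haveI : Mono (ShortComplex.mk ((η (jF L M)).app G) _ (cokernel.condition _)).f := mono_η L M G
  (ShortComplex.exact_of_g_is_cokernel (ShortComplex.mk ((η (jF L M)).app G) _ (cokernel.condition _))
    (cokernelIsCokernel _)).lift (T G) (T_comp_cokernel G)

theorem ν_η : ν G ≫ (η (jF L M)).app G = T G := by
  haveI : Mono (ShortComplex.mk ((η (jF L M)).app G) _ (cokernel.condition _)).f := mono_η L M G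
  exact (ShortComplex.exact_of_g_is_cokernel (ShortComplex.mk ((η (jF L M)).app G) _ (cokernel.condition _))
    (cokernelIsCokernel _)).lift_f (T G) (T_comp_cokernel G)

theorem ν_app {N : Type u} [Field N] [Algebra L N] [Algebra.Etale L N] (ψ : M →ₐ[L] N)
    (v : EtCoh.sect G (W M (O L N))) :
    (ν G).hom.app (op (O L N)) v = ∑ τ : M ≃ₐ[L] M, coord G (ψ.comp τ.toAlgHom) v := by
  rw [← coord_T, ← ν_η]
  exact (coord_η G ψ _).symm

variable (σ : M ≃ₐ[L] M)

/-- `σ - 1`, descended to the cokernel of the unit. -/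
noncomputable def θ : cokernel ((η (jF L M)).app G) ⟶ (P (jF L M)).obj G :=
  cokernel.desc _ (twEnd σ G - 𝟙 _) (by
    refine hom_ext_fields _ _ fun F _ _ _ _ _ s => ?_
    show (twEnd σ G).hom.app (op (O L F)) (((η (jF L M)).app G).hom.app (op (O L F)) s) -
      ((η (jF L M)).app G).hom.app (op (O L F)) s = 0
    rw [twEnd_app, η_app, map_map, tw_proj, sub_self])

theorem π_θ_app {N : Type u} [Field N] [Algebra L N] [Algebra.Etale L N] (ψ : M →ₐ[L] N) (τ : M ≃ₐ[L] M)
    (v : EtCoh.sect G (W M (O L N))) :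
    coord G (ψ.comp τ.toAlgHom)
        ((θ G σ).hom.app (op (O L N)) ((cokernel.π ((η (jF L M)).app G)).hom.app (op (O L N)) v)) =
      coord G (ψ.comp (τ * σ).toAlgHom) v - coord G (ψ.comp τ.toAlgHom) v := by
  have h : (θ G σ).hom.app (op (O L N)) ((cokernel.π ((η (jF L M)).app G)).hom.app (op (O L N)) v) =
      (twEnd σ G - 𝟙 ((P (jF L M)).obj G)).hom.app (op (O L N)) v :=
    ConcreteCategory.congr_hom (congrArg (fun m : (P (jF L M)).obj G ⟶ (P (jF L M)).obj G =>
      m.hom.app (op (O L N))) (cokernel.π_desc ((η (jF L M)).app G) (twEnd σ G - 𝟙 _) _)) v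
  refine ((congrArg (coord G (ψ.comp τ.toAlgHom)) h).trans
    (map_sub (coord G (ψ.comp τ.toAlgHom)) ((twEnd σ G).hom.app (op (O L N)) v) v)).trans ?_
  exact congrArg (· - coord G (ψ.comp τ.toAlgHom) v) (coord_twEnd G (ψ.comp τ.toAlgHom) σ v)

theorem twEnd_T : twEnd σ G ≫ T G = T G := by
  refine hom_ext_fields _ _ fun F _ _ _ _ _ s => ?_
  obtain ⟨N, _, _, _, _, _, ⟨α⟩, ⟨ψ⟩⟩ := exists_common (K := L) F M
  apply map_homO_injective _ α
  rw [← NatTrans.naturality_apply (twEnd σ G ≫ T G).hom (homO α).op s,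
    ← NatTrans.naturality_apply (T G).hom (homO α).op s]
  let v := ((P (jF L M)).obj G).obj.map (homO α).op s
  refine coord_ext G ψ fun τ' => ?_
  show coord G _ ((T G).hom.app (op (O L N)) ((twEnd σ G).hom.app (op (O L N)) v)) =
    coord G _ ((T G).hom.app (op (O L N)) v)
  rw [coord_T, coord_T]
  simp only [coord_twEnd]
  exact Fintype.sum_equiv (Equiv.mulRight σ) _ _ fun τ => rfl

theorem θ_ν : θ G σ ≫ ν G = 0 := by
  haveI := mono_η L M G
  apply (cancel_epi (cokernel.π ((η (jF L M)).app G))).1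
  refine ((Category.assoc _ _ _).symm.trans (congrArg (· ≫ ν G) (cokernel.π_desc _ _ _))).trans ?_
  refine Eq.trans ?_ comp_zero.symm
  apply (cancel_mono ((η (jF L M)).app G)).1
  refine ((Category.assoc _ _ _).trans (congrArg ((twEnd σ G - 𝟙 _) ≫ ·) (ν_η G))).trans ?_
  rw [Preadditive.sub_comp, Category.id_comp, twEnd_T, sub_self]
  exact zero_comp.symm

variable {σ}

/-- A section of a quotient vanishes if it does after restriction. -/
theorem mono_θ (hσ : ∀ τ : M ≃ₐ[L] M, τ ∈ Subgroup.zpowers σ) : Mono (θ G σ) := by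
  refine Preadditive.mono_of_cancel_zero _ fun {Z} a ha => hom_ext_fields a 0 fun F _ _ _ _ _ z => ?_
  obtain ⟨F', _, _, _, _, _, φ, r, hr⟩ :=
    exists_lift_fields (cokernel.π ((η (jF L M)).app G)) (a.hom.app (op (O L F)) z)
  obtain ⟨N, _, _, _, _, _, ⟨α⟩, ⟨ψ⟩⟩ := exists_common (K := L) F' M
  let v := ((P (jF L M)).obj G).obj.map (homO α).op r
  apply map_homO_injective _ (α.comp φ)
  refine Eq.trans ?_ (map_zero ((cokernel ((η (jF L M)).app G)).obj.map (homO (α.comp φ)).op).hom).symm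
  have hv : (cokernel ((η (jF L M)).app G)).obj.map (homO (α.comp φ)).op (a.hom.app (op (O L F)) z) =
      (cokernel.π ((η (jF L M)).app G)).hom.app (op (O L N)) v := by
    rw [← map_homO_comp, ← hr]
    exact (NatTrans.naturality_apply (cokernel.π ((η (jF L M)).app G)).hom (homO α).op r).symm
  have h0 : (θ G σ).hom.app (op (O L N)) ((cokernel.π ((η (jF L M)).app G)).hom.app (op (O L N)) v) = 0 := by
    rw [← hv, NatTrans.naturality_apply (θ G σ).hom (homO (α.comp φ)).op]
    refine (congrArg (((P (jF L M)).obj G).obj.map (homO (α.comp φ)).op)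
      (ConcreteCategory.congr_hom (congrArg (fun m => m.hom.app (op (O L F))) ha) z)).trans ?_
    exact map_zero (((P (jF L M)).obj G).obj.map (homO (α.comp φ)).op).hom
  have hconst : ∀ τ : M ≃ₐ[L] M, coord G (ψ.comp τ.toAlgHom) v = coord G (ψ.comp (1 : M ≃ₐ[L] M).toAlgHom) v :=
    const_of_comp σ hσ (fun τ => coord G (ψ.comp τ.toAlgHom) v) fun τ => by
      refine sub_eq_zero.1 ((π_θ_app G σ ψ τ v).symm.trans ?_)
      exact (congrArg (coord G (ψ.comp τ.toAlgHom)) h0).trans (map_zero (coord G (ψ.comp τ.toAlgHom)))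
  rw [hv, ← exists_eq_η G ψ hconst]
  exact ConcreteCategory.congr_hom (congrArg (fun m => m.hom.app (op (O L N)))
    (cokernel.condition ((η (jF L M)).app G))) _

theorem mono_desc (hσ : ∀ τ : M ≃ₐ[L] M, τ ∈ Subgroup.zpowers σ) :
    Mono (cokernel.desc (θ G σ) (ν G) (θ_ν G σ)) := by
  refine Preadditive.mono_of_cancel_zero _ fun {Z} a ha => hom_ext_fields a 0 fun F _ _ _ _ _ z => ?_
  obtain ⟨F', _, _, _, _, _, φ, r, hr⟩ := exists_lift_fields (cokernel.π (θ G σ)) (a.hom.app (op (O L F)) z)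
  obtain ⟨N, _, _, _, _, _, ⟨α⟩, ⟨ψ⟩⟩ := exists_common (K := L) F' M
  let v := ((P (jF L M)).obj G).obj.map (homO α).op r
  apply map_homO_injective _ (α.comp φ)
  refine Eq.trans ?_ (map_zero ((cokernel (θ G σ)).obj.map (homO (α.comp φ)).op).hom).symm
  have hv : (cokernel (θ G σ)).obj.map (homO (α.comp φ)).op (a.hom.app (op (O L F)) z) =
      (cokernel.π (θ G σ)).hom.app (op (O L N)) v := by
    rw [← map_homO_comp, ← hr]
    exact (NatTrans.naturality_apply (cokernel.π (θ G σ)).hom (homO α).op r).symm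
  have h0 : (ν G).hom.app (op (O L N)) v = 0 := by
    have h1 : (ν G).hom.app (op (O L N)) v =
        (cokernel.desc (θ G σ) (ν G) (θ_ν G σ)).hom.app (op (O L N))
          ((cokernel.π (θ G σ)).hom.app (op (O L N)) v) :=
      (ConcreteCategory.congr_hom (congrArg (fun m : (P (jF L M)).obj G ⟶ G => m.hom.app (op (O L N))) (cokernel.π_desc (θ G σ) (ν G) (θ_ν G σ))) v).symm
    rw [h1, ← hv, NatTrans.naturality_apply (cokernel.desc (θ G σ) (ν G) (θ_ν G σ)).hom (homO (α.comp φ)).op]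
    refine (congrArg (G.obj.map (homO (α.comp φ)).op)
      (ConcreteCategory.congr_hom (congrArg (fun m => m.hom.app (op (O L F))) ha) z)).trans ?_
    exact map_zero (G.obj.map (homO (α.comp φ)).op).hom
  rw [ν_app G ψ] at h0
  obtain ⟨w, hw⟩ := exists_diff σ hσ (fun τ => coord G (ψ.comp τ.toAlgHom) v) h0
  obtain ⟨w', hw'⟩ := coord_surjective G ψ w
  have hvw : (θ G σ).hom.app (op (O L N)) ((cokernel.π ((η (jF L M)).app G)).hom.app (op (O L N)) w') = v :=
    coord_ext G ψ fun τ => by rw [π_θ_app, hw', hw', hw]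
  rw [hv, ← hvw]
  exact ConcreteCategory.congr_hom (congrArg (fun m => m.hom.app (op (O L N))) (cokernel.condition (θ G σ))) _

theorem epi_ν : Epi (ν (M := M) G) := by
  refine Preadditive.epi_of_cancel_zero _ fun {Z} a ha => hom_ext_fields a 0 fun F _ _ _ _ _ z => ?_
  classical
  obtain ⟨N, _, _, _, _, _, ⟨α⟩, ⟨ψ⟩⟩ := exists_common (K := L) F M
  apply map_homO_injective _ α
  refine Eq.trans ?_ (map_zero (Z.obj.map (homO α).op).hom).symm
  rw [← NatTrans.naturality_apply a.hom (homO α).op z]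
  obtain ⟨v, hv⟩ := coord_surjective G ψ
    (fun τ => if τ = 1 then G.obj.map (homO α).op z else 0)
  have h : (ν G).hom.app (op (O L N)) v = G.obj.map (homO α).op z := by
    rw [ν_app G ψ]
    simp only [hv, Finset.sum_ite_eq', Finset.mem_univ, if_true]
  rw [← h]
  exact ConcreteCategory.congr_hom (congrArg (fun m => m.hom.app (op (O L N))) ha) v

/-- The cyclic vanishing criterion in degree two. -/
theorem eq_zero_of_cyclic (hσ : ∀ τ : M ≃ₐ[L] M, τ ∈ Subgroup.zpowers σ)
    (hP : Subsingleton (EtCoh.H (S L) ((P (jF L M)).obj G) 1))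
    (hν : Function.Surjective ((ν (M := M) G).hom.app (op (EtCoh.top (S L)))))
    (x : EtCoh.H (S L) G 2) (hx : (Ext.mk₀ (aug (jF L M))).comp x (zero_add 2) = 0) : x = 0 := by
  haveI := mono_η L M G
  haveI := mono_θ G hσ
  haveI := mono_desc G hσ
  haveI := epi_ν (M := M) G
  let A := ShortComplex.mk ((η (jF L M)).app G) (cokernel.π _) (cokernel.condition _)
  have hA : A.ShortExact :=
    { exact := ShortComplex.exact_of_g_is_cokernel _ (cokernelIsCokernel _)
      mono_f := mono_η L M G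
      epi_g := inferInstanceAs (Epi (cokernel.π ((η (jF L M)).app G))) }
  let B := ShortComplex.mk (θ G σ) (ν G) (θ_ν G σ)
  have hB : B.ShortExact :=
    { exact := B.exact_iff_mono_cokernel_desc.2 (mono_desc G hσ)
      mono_f := mono_θ G hσ
      epi_g := epi_ν G }
  obtain ⟨y, rfl⟩ := Ext.covariant_sequence_exact₁ _ hA x (comp_η_eq_zero _ x hx) (n₀ := 1) rfl
  obtain ⟨z, rfl⟩ := Ext.covariant_sequence_exact₁ _ hB y
    (Subsingleton.elim (α := EtCoh.H (S L) ((P (jF L M)).obj G) 1) _ _) (n₀ := 0) rfl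
  obtain ⟨f, rfl⟩ := (Ext.mk₀_bijective _ _).2 z
  obtain ⟨t, ht⟩ := hν (PullSec.elem (S L) G f)
  have hf : f = (PullSec.elem (S L) _).symm t ≫ B.g := by
    apply (PullSec.elem (S L) G).injective
    rw [PullSec.elem_comp, AddEquiv.apply_symm_apply]
    exact ht.symm
  have h0 : (Ext.mk₀ f).comp hB.extClass (zero_add 1) = 0 := by
    rw [hf, ← Ext.mk₀_comp_mk₀, Ext.comp_assoc_of_second_deg_zero, hB.comp_extClass, Ext.comp_zero]
  exact (congrArg (fun e => Ext.comp e hA.extClass rfl) h0).trans (Ext.zero_comp ..)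

end Groth.Agent.H61.FieldCoh
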