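import Groth.Agent.H61.FieldCoh.Brauer
import Groth.Agent.H61.TameInertia
import Mathlib.FieldTheory.KummerExtension
import Mathlib.RingTheory.Norm.Transitivity
import Mathlib.Tactic.FieldSimp

/-!
# Norms over a strictly henselian discretely valued field

* `exists_norm_eq`: norms of a cyclic Kummer extension of degree `l` are surjective.
* `normSurj`: hence `NormSurj K l` for `l` invertible in `R`.
* `eq_zero_of_primeFactors`: killed classes from vanishing of primary parts.
-/

set_option autoImplicit false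

universe u

open CategoryTheory Polynomial IsLocalRing

namespace Groth.Agent.H61.FieldCoh

section Prim

theorem nsmul_id_of_killedBy {X : AlgebraicGeometry.Scheme.{u}} {F : EtCoh.Ab X} {n : ℕ}
    (hF : EtCoh.KilledBy n F) : n • 𝟙 F = 0 :=
  CategoryTheory.Sheaf.hom_ext (CategoryTheory.NatTrans.ext (funext fun V => CategoryTheory.ConcreteCategory.hom_ext _ _
    fun s => by
      obtain ⟨V⟩ := V
      rw [nsmul_id_app, hF]
      rfl))

/-- An element killed by `n ≠ 0` is zero once its primary parts are. -/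
theorem eq_zero_of_primeFactors {A : Type*} [AddCommGroup A] {n : ℕ} (hn : n ≠ 0)
    (h : ∀ l : ℕ, l.Prime → l ∣ n → ∀ x : A, (∃ m : ℕ, l ^ m • x = 0) → x = 0) :
    ∀ x : A, n • x = 0 → x = 0 := by
  induction n using Nat.recOnMul with
  | zero => exact absurd rfl hn
  | one => intro x hx; rwa [one_nsmul] at hx
  | prime l hl => intro x hx; exact h l hl dvd_rfl x ⟨1, by rwa [pow_one]⟩
  | mul a b iha ihb =>
    intro x hx
    obtain ⟨ha, hb⟩ := mul_ne_zero_iff.1 hn
    refine ihb hb (fun l hl hd => h l hl (hd.mul_left a)) x ?_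
    exact iha ha (fun l hl hd => h l hl (hd.mul_right b)) _ (by rwa [← mul_nsmul, mul_comm b a])

end Prim

variable {R : Type u} [CommRing R] [IsDomain R] [IsDiscreteValuationRing R] [HenselianLocalRing R]
  [IsSepClosed (ResidueField R)] {E : Type u} [Field E] [Algebra R E]

/-- In a cyclic extension of degree `l` every element is a norm. -/
theorem exists_norm_eq (hinj : Function.Injective (algebraMap R E))
    (hfrac : ∀ x : E, ∃ a b : R, b ≠ 0 ∧ x * algebraMap R E b = algebraMap R E a)
    {l : ℕ} [hl : Fact l.Prime] (hlu : IsUnit (l : ResidueField R))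
    (M : Type u) [Field M] [Algebra E M] [FiniteDimensional E M] [IsGalois E M]
    (hd : Module.finrank E M = l) (c : E) (hc : c ≠ 0) : ∃ y : M, Algebra.norm E y = c := by
  obtain ⟨N, hN⟩ : ∃ N : M →*₀ E, ∀ x, N x = Algebra.norm E x :=
    ⟨{ (Algebra.norm E : M →* E) with map_zero' := Algebra.norm_zero }, fun x => rfl⟩
  have hpow : ∀ e : E, N (algebraMap E M e) = e ^ l := fun e => by
    rw [hN, Algebra.norm_algebraMap, hd]
  obtain ⟨ϖ, hϖ⟩ := IsDiscreteValuationRing.exists_irreducible R
  set t := algebraMap R E ϖ with ht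
  have ht0 : t ≠ 0 := fun h => hϖ.ne_zero (hinj (h.trans (map_zero _).symm))
  have hdec : ∀ x : E, x ≠ 0 → ∃ (e : E) (k : ℤ), x = e ^ l * t ^ k := by
    intro x hx
    obtain ⟨a, b, hb, hab⟩ := hfrac x
    have hb' : algebraMap R E b ≠ 0 := fun h => hb (hinj (h.trans (map_zero _).symm))
    have ha : a ≠ 0 := by
      rintro rfl
      rw [map_zero, mul_eq_zero] at hab
      exact hab.elim hx hb'
    obtain ⟨i, u, hu⟩ := IsDiscreteValuationRing.eq_unit_mul_pow_irreducible ha hϖ
    obtain ⟨j, v, hv⟩ := IsDiscreteValuationRing.eq_unit_mul_pow_irreducible hb hϖ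
    obtain ⟨u', hu'⟩ := H61.TameInertia.exists_pow_eq_of_isUnit hlu u.isUnit
    obtain ⟨v', hv'⟩ := H61.TameInertia.exists_pow_eq_of_isUnit hlu v.isUnit
    refine ⟨algebraMap R E u' / algebraMap R E v', (i : ℤ) - j, ?_⟩
    have hx' : x = algebraMap R E a / algebraMap R E b := eq_div_of_mul_eq hb' hab
    rw [hx', hu, hv, map_mul, map_mul, ← hu', ← hv']
    simp only [map_pow]
    rw [← ht, div_pow,
      zpow_sub₀ ht0, zpow_natCast, zpow_natCast, div_mul_div_comm]
  obtain ⟨ζ, hζ⟩ := H61.TameInertia.exists_isPrimitiveRoot (A := R) hlu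
  have hζE : IsPrimitiveRoot (algebraMap R E ζ) l := hζ.map_of_injective hinj
  have hK : (primitiveRoots (Module.finrank E M) E).Nonempty :=
    ⟨algebraMap R E ζ, by rw [hd, mem_primitiveRoots hl.out.pos]; exact hζE⟩
  haveI : IsCyclic Gal(M/E) := isCyclic_of_prime_card (p := l) (by rw [IsGalois.card_aut_eq_finrank, hd])
  obtain ⟨α, ⟨a₀, hα⟩, htop⟩ := exists_root_adjoin_eq_top_of_isCyclic E M hK
  rw [hd] at hα
  have hgen : (minpoly E α).natDegree = l := by
    rw [← IntermediateField.adjoin.finrank (IsIntegral.of_finite E α), htop, IntermediateField.finrank_top', hd]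
  have hα0 : α ≠ 0 := by
    intro h
    rw [h, minpoly.zero, natDegree_X] at hgen
    exact hl.out.one_lt.ne hgen
  have ha0 : a₀ ≠ 0 := by
    rintro rfl
    rw [map_zero] at hα
    exact hα0 (eq_zero_of_pow_eq_zero hα.symm)
  have hmin : minpoly E α = X ^ l - C a₀ := by
    refine Eq.symm (Polynomial.eq_of_monic_of_dvd_of_natDegree_le (minpoly.monic (IsIntegral.of_finite E α))
      (monic_X_pow_sub_C a₀ hl.out.ne_zero) (minpoly.dvd E α ?_) ?_)
    · rw [map_sub, map_pow, aeval_X, aeval_C, hα, sub_self]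
    · rw [natDegree_X_pow_sub_C, hgen]
  have hnot : ∀ b : E, b ^ l ≠ a₀ := fun b hb => by
    have hirr := minpoly.irreducible (IsIntegral.of_finite E α)
    rw [hmin] at hirr
    have h1 := natDegree_eq_of_degree_eq_some (degree_eq_one_of_irreducible_of_root hirr (x := b)
      (by simp [IsRoot, hb]))
    rw [natDegree_X_pow_sub_C] at h1
    exact hl.out.one_lt.ne' h1
  obtain ⟨e₀, k, hk⟩ := hdec a₀ ha0
  have hkl : ¬ (l : ℤ) ∣ k := by
    rintro ⟨s, rfl⟩
    refine hnot (e₀ * t ^ s) ?_
    rw [mul_pow, hk, ← zpow_natCast (t ^ s) l, ← zpow_mul, mul_comm s]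
  obtain ⟨g, hg⟩ : ∃ g : M, N g = a₀ := by
    have hnorm : N α = (-1) ^ l * (-a₀) := by
      let pb : PowerBasis E M := (IntermediateField.adjoin.powerBasis (IsIntegral.of_finite E α)).map
        ((IntermediateField.equivOfEq htop).trans IntermediateField.topEquiv)
      have hg : pb.gen = α := rfl
      have := Algebra.PowerBasis.norm_gen_eq_coeff_zero_minpoly pb
      rw [hg] at this
      rw [hN, this, hmin, ← pb.natDegree_minpoly, hg, hgen,
        coeff_sub, coeff_X_pow, if_neg hl.out.ne_zero.symm, coeff_C_zero, zero_sub]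
    rcases hl.out.eq_two_or_odd' with h2 | hodd
    · subst h2
      obtain ⟨r, hr⟩ := H61.TameInertia.exists_pow_eq_of_isUnit (A := R) hlu (isUnit_one.neg)
      refine ⟨α * algebraMap E M (algebraMap R E r), ?_⟩
      rw [map_mul, hnorm, hpow, ← map_pow, hr, map_neg, map_one]
      ring
    · exact ⟨α, by rw [hnorm, hodd.neg_one_pow]; ring⟩
  obtain ⟨g', hg'⟩ : ∃ g' : M, N g' = t := by
    have he0 : e₀ ≠ 0 := by
      rintro rfl
      exact ha0 (by rw [hk, zero_pow hl.out.ne_zero, zero_mul])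
    obtain ⟨u, v, huv⟩ := (Prime.coprime_iff_not_dvd (Nat.prime_iff_prime_int.1 hl.out)).2 hkl
    refine ⟨(algebraMap E M t) ^ u * (g * algebraMap E M e₀⁻¹) ^ v, ?_⟩
    rw [map_mul, map_zpow₀, map_zpow₀, map_mul, hpow, hpow, hg, hk, mul_comm (e₀ ^ l), mul_assoc, ← mul_pow,
      mul_inv_cancel₀ he0, one_pow, mul_one, ← zpow_natCast, ← zpow_mul, ← zpow_mul, ← zpow_add₀ ht0,
      mul_comm (l : ℤ), mul_comm k, huv, zpow_one]
  obtain ⟨e, m, rfl⟩ := hdec c hc
  exact ⟨algebraMap E M e * g' ^ m, by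
    rw [← hN]
    rw [map_mul, map_zpow₀, hpow, hg']⟩

/-- Norm surjectivity over the fraction field. -/
theorem normSurj (K : Type u) [Field K] [Algebra R K] [IsFractionRing R K] {l : ℕ} [Fact l.Prime]
    (hlu : IsUnit (l : ResidueField R)) : NormSurj K l := by
  intro E _ _ hf hs M _ _ _ _ hd c hc
  haveI := hf
  haveI := hs
  letI : Algebra R E := ((algebraMap K E).comp (algebraMap R K)).toAlgebra
  haveI : IsScalarTower R K E := IsScalarTower.of_algebraMap_eq fun x => rfl
  obtain ⟨O, _, _, _, _, _, _, f, -, hinj, hfrac, hu⟩ := H61.TameInertia.isStrictHens_integralClosure R K E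
  letI : Algebra O E := f.toAlgebra
  exact exists_norm_eq (R := O) hinj hfrac (hu l hlu) M hd c hc

end Groth.Agent.H61.FieldCoh
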