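import Groth.Agent.H61.FieldCoh.Free
import Mathlib.RingTheory.Etale.Field
import Mathlib.FieldTheory.Galois.Basic

/-!
# Galois descent of sections on the small étale site of a field

* `O K L`: `Spec L` in the small étale site of `Spec K`; `homO φ` for `φ : L →ₐ[K] L'`.
* `existsUnique_descend`: sections over `Spec K` are the `Gal(N/K)`-invariant sections over `Spec N`.
-/

universe u

open CategoryTheory CategoryTheory.Limits AlgebraicGeometry Opposite TensorProduct

namespace Groth.Agent.H61.FieldCoh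

variable (K : Type u) [Field K]

/-- The spectrum of `K`. -/
noncomputable abbrev S : Scheme.{u} := Spec (CommRingCat.of K)

/-- The structure map of `Spec L`. -/
noncomputable abbrev jF (L : Type u) [CommRing L] [Algebra K L] : Spec (CommRingCat.of L) ⟶ S K :=
  Spec.map (CommRingCat.ofHom (algebraMap K L))

instance etale_jF (L : Type u) [CommRing L] [Algebra K L] [Algebra.Etale K L] : Etale (jF K L) :=
  (HasRingHomProperty.Spec_iff (P := @Etale)).2 (RingHom.etale_algebraMap.2 inferInstance)

/-- `Spec L` as an object of the small étale site of `Spec K`. -/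
noncomputable abbrev O (L : Type u) [CommRing L] [Algebra K L] [Algebra.Etale K L] : (S K).Etale :=
  obj (jF K L)

theorem etale_of_finite (L : Type u) [Field L] [Algebra K L] [FiniteDimensional K L]
    [Algebra.IsSeparable K L] : Algebra.Etale K L := by
  haveI := Algebra.FormallyEtale.of_isSeparable K L
  haveI : Algebra.FinitePresentation K L := Algebra.FinitePresentation.of_finiteType.mp inferInstance
  exact ⟨inferInstance, inferInstance⟩

variable {K}
variable {L L' L'' : Type u} [CommRing L] [Algebra K L] [Algebra.Etale K L]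
  [CommRing L'] [Algebra K L'] [Algebra.Etale K L']
  [CommRing L''] [Algebra K L''] [Algebra.Etale K L'']

/-- The morphism of an algebra map. -/
noncomputable def homO (φ : L →ₐ[K] L') : O K L' ⟶ O K L :=
  MorphismProperty.Over.homMk (Spec.map (CommRingCat.ofHom φ.toRingHom))
    (show Spec.map (CommRingCat.ofHom φ.toRingHom) ≫
        (𝟙 (Spec (CommRingCat.of L)) ≫ jF K L) = 𝟙 (Spec (CommRingCat.of L')) ≫ jF K L' by
      rw [Category.id_comp, Category.id_comp, ← Spec.map_comp, ← CommRingCat.ofHom_comp]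
      erw [φ.comp_algebraMap])

theorem homO_comp (φ : L →ₐ[K] L') (ψ : L' →ₐ[K] L'') :
    homO ψ ≫ homO φ = homO (ψ.comp φ) :=
  MorphismProperty.Over.Hom.ext
    (show Spec.map (CommRingCat.ofHom ψ.toRingHom) ≫ Spec.map (CommRingCat.ofHom φ.toRingHom) =
        Spec.map (CommRingCat.ofHom (ψ.comp φ).toRingHom) by
      rw [← Spec.map_comp]; rfl)

theorem homO_id : homO (AlgHom.id K L) = 𝟙 (O K L) :=
  MorphismProperty.Over.Hom.ext (show Spec.map (CommRingCat.ofHom (AlgHom.id K L).toRingHom) = 𝟙 _ from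
    Spec.map_id _)

/-- Restrictions compose. -/
theorem map_map (G : EtCoh.Ab (S K)) {U V W : (S K).Etale} (a : V ⟶ U) (b : W ⟶ V) (x : EtCoh.sect G U) :
    G.obj.map b.op (G.obj.map a.op x) = G.obj.map (b ≫ a).op x := by
  rw [op_comp, Functor.map_comp, ConcreteCategory.comp_apply]

/-- Sections agreeing on a jointly surjective family are equal. -/
theorem sections_ext {X : Scheme.{u}} (G : EtCoh.Ab X) {U : X.Etale} {ι : Type*} (Z : ι → X.Etale)
    (f : ∀ i, Z i ⟶ U) (h : ∀ u : U.left, ∃ (i : ι) (v : (Z i).left), (f i).left.base v = u)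
    (s t : EtCoh.sect G U) (hst : ∀ i, G.obj.map (f i).op s = G.obj.map (f i).op t) : s = t := by
  have hQ : Presieve.IsSheaf X.smallEtaleTopology (G.obj ⋙ forget AddCommGrpCat.{u + 1}) :=
    (isSheaf_iff_isSheaf_of_type _ _).1
      ((sheafCompose X.smallEtaleTopology (forget AddCommGrpCat.{u + 1})).obj G).property
  have hsep := (hQ _ (Groth.Agent.Lib.EtSite.Basic.ofArrows_mem Z f h)).isSeparatedFor
  refine hsep.ext fun V g hg => ?_
  obtain ⟨i, a, rfl⟩ := (Sieve.mem_ofArrows_iff _ _ _).1 hg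
  show G.obj.map (a ≫ f i).op s = G.obj.map (a ≫ f i).op t
  rw [op_comp, Functor.map_comp, ConcreteCategory.comp_apply, ConcreteCategory.comp_apply, hst i]

instance subsingleton_top : Subsingleton (EtCoh.top (S K)).left :=
  inferInstanceAs (Subsingleton (PrimeSpectrum K))

theorem surjective_to_top [Nontrivial L] (f : O K L ⟶ EtCoh.top (S K)) (x : (EtCoh.top (S K)).left) :
    ∃ (_ : Unit) (v : (O K L).left), f.left.base v = x := by
  obtain ⟨p⟩ : Nonempty (PrimeSpectrum L) := inferInstance
  exact ⟨(), p, Subsingleton.elim _ _⟩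

variable {N : Type u} [Field N] [Algebra K N] [FiniteDimensional K N] [IsGalois K N] [Algebra.Etale K N]

omit [FiniteDimensional K N] [Algebra.Etale K N] in
/-- Two embeddings of a normal extension differ by an automorphism. -/
theorem exists_aut {F : Type u} [Field F] [Algebra K F] (i₁ i₂ : N →ₐ[K] F) :
    ∃ σ : N ≃ₐ[K] N, ∀ y, i₁ (σ y) = i₂ y := by
  let : Algebra N F := i₁.toRingHom.toAlgebra
  have : IsScalarTower K N F := IsScalarTower.of_algebraMap_eq fun x => (i₁.commutes x).symm
  exact ⟨AlgHom.restrictNormal' i₂ N, fun y => AlgHom.restrictNormal_commutes i₂ N y⟩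

omit [FiniteDimensional K N] [Algebra.Etale K N] in
/-- `N ⊗ N` is split by the maps `x ⊗ y ↦ x σ(y)`. -/
theorem exists_point (P : PrimeSpectrum (N ⊗[K] N)) :
    ∃ σ : N ≃ₐ[K] N, ∃ q : PrimeSpectrum N,
      PrimeSpectrum.comap (Algebra.TensorProduct.productMap (AlgHom.id K N) σ.toAlgHom).toRingHom q = P := by
  let F := FractionRing ((N ⊗[K] N) ⧸ P.asIdeal)
  let π : N ⊗[K] N →ₐ[K] F :=
    (IsScalarTower.toAlgHom K ((N ⊗[K] N) ⧸ P.asIdeal) F).comp (Ideal.Quotient.mkₐ K P.asIdeal)
  let i₁ : N →ₐ[K] F := π.comp Algebra.TensorProduct.includeLeft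
  let i₂ : N →ₐ[K] F := π.comp Algebra.TensorProduct.includeRight
  obtain ⟨σ, hσ⟩ := exists_aut i₁ i₂
  let m := Algebra.TensorProduct.productMap (AlgHom.id K N) σ.toAlgHom
  have hπ : π = i₁.comp m := by
    refine Algebra.TensorProduct.ext' fun x y => ?_
    show π (x ⊗ₜ y) = i₁ (m (x ⊗ₜ y))
    have hm : m (x ⊗ₜ y) = x * σ y := Algebra.TensorProduct.productMap_apply_tmul _ _ x y
    rw [hm, map_mul, hσ y]
    show π (x ⊗ₜ y) = π (x ⊗ₜ 1) * π (1 ⊗ₜ y)
    rw [← map_mul, Algebra.TensorProduct.tmul_mul_tmul, mul_one, one_mul]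
  refine ⟨σ, ⟨⊥, Ideal.isPrime_bot⟩, PrimeSpectrum.ext (Ideal.ext fun z => ?_)⟩
  show m z ∈ (⊥ : Ideal N) ↔ z ∈ P.asIdeal
  rw [Ideal.mem_bot, ← map_eq_zero_iff i₁ i₁.toRingHom.injective,
    show i₁ (m z) = π z from (DFunLike.congr_fun hπ z).symm]
  show algebraMap _ F (Ideal.Quotient.mk P.asIdeal z) = 0 ↔ _
  rw [map_eq_zero_iff _ (IsFractionRing.injective _ F), Ideal.Quotient.eq_zero_iff_mem]

/-- Galois invariant sections over `Spec N` are defined over `Spec K`. -/
theorem existsUnique_descend (G : EtCoh.Ab (S K)) (t : EtCoh.sect G (O K N))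
    (ht : ∀ σ : N ≃ₐ[K] N, G.obj.map (homO σ.toAlgHom).op t = t) :
    ∃! s : EtCoh.sect G (EtCoh.top (S K)),
      G.obj.map ((EtCore.topIsTerminal (S K)).from (O K N)).op s = t := by
  let f : O K N ⟶ EtCoh.top (S K) := (EtCore.topIsTerminal (S K)).from (O K N)
  have hcov := fun x => surjective_to_top f x
  haveI : Algebra.Etale K (N ⊗[K] N) := Algebra.Etale.comp K N (N ⊗[K] N)
  let eL : N →ₐ[K] N ⊗[K] N := Algebra.TensorProduct.includeLeft
  let eR : N →ₐ[K] N ⊗[K] N := Algebra.TensorProduct.includeRight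
  have hLR : G.obj.map (homO eL).op t = G.obj.map (homO eR).op t := by
    refine sections_ext G (fun _ : N ≃ₐ[K] N => O K N)
      (fun σ => homO (Algebra.TensorProduct.productMap (AlgHom.id K N) σ.toAlgHom)) ?_ _ _ fun σ => ?_
    · intro P
      obtain ⟨σ, q, hq⟩ := exists_point P
      exact ⟨σ, q, hq⟩
    · rw [map_map, map_map, homO_comp, homO_comp]
      have h1 : (Algebra.TensorProduct.productMap (AlgHom.id K N) σ.toAlgHom).comp eL = AlgHom.id K N :=
        Algebra.TensorProduct.productMap_left _ _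
      have h2 : (Algebra.TensorProduct.productMap (AlgHom.id K N) σ.toAlgHom).comp eR = σ.toAlgHom :=
        Algebra.TensorProduct.productMap_right _ _
      rw [h1, h2, homO_id, ht σ, op_id, CategoryTheory.Functor.map_id, ConcreteCategory.id_apply]
  have hcompat : ∀ (Z : (S K).Etale) (a b : Z ⟶ O K N), G.obj.map a.op t = G.obj.map b.op t := by
    intro Z a b
    let al : Z.left ⟶ Spec (CommRingCat.of N) := a.left
    let bl : Z.left ⟶ Spec (CommRingCat.of N) := b.left
    have ha : al ≫ jF K N = Z.hom := by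
      refine Eq.trans ?_ (MorphismProperty.Over.w a)
      exact congrArg (al ≫ ·) (Category.id_comp (jF K N)).symm
    have hb : bl ≫ jF K N = Z.hom := by
      refine Eq.trans ?_ (MorphismProperty.Over.w b)
      exact congrArg (bl ≫ ·) (Category.id_comp (jF K N)).symm
    let hl : Z.left ⟶ Spec (CommRingCat.of (N ⊗[K] N)) :=
      pullback.lift al bl (ha.trans hb.symm) ≫ (pullbackSpecIso K N N).hom
    have h₁ : hl ≫ Spec.map (CommRingCat.ofHom eL.toRingHom) = al := by
      rw [Category.assoc]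
      erw [pullbackSpecIso_hom_fst]
      exact pullback.lift_fst _ _ _
    have h₂ : hl ≫ Spec.map (CommRingCat.ofHom eR.toRingHom) = bl := by
      rw [Category.assoc]
      erw [pullbackSpecIso_hom_snd]
      exact pullback.lift_snd _ _ _
    let h : Z ⟶ O K (N ⊗[K] N) := MorphismProperty.Over.homMk hl (by
      show hl ≫ 𝟙 _ ≫ jF K (N ⊗[K] N) = Z.hom
      have e0 : jF K (N ⊗[K] N) = Spec.map (CommRingCat.ofHom eL.toRingHom) ≫ jF K N := by
        rw [← Spec.map_comp, ← CommRingCat.ofHom_comp]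
        erw [eL.comp_algebraMap]
      rw [Category.id_comp, e0, ← Category.assoc, h₁, ha])
    rw [← show h ≫ homO eL = a from MorphismProperty.Over.Hom.ext h₁,
      ← show h ≫ homO eR = b from MorphismProperty.Over.Hom.ext h₂,
      ← map_map, ← map_map, hLR]
  have hQ : Presieve.IsSheaf (S K).smallEtaleTopology (G.obj ⋙ forget AddCommGrpCat.{u + 1}) :=
    (isSheaf_iff_isSheaf_of_type _ _).1
      ((sheafCompose (S K).smallEtaleTopology (forget AddCommGrpCat.{u + 1})).obj G).property
  have hsf := hQ _ (Groth.Agent.Lib.EtSite.Basic.ofArrows_mem (fun _ : Unit => O K N) (fun _ => f) hcov)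
  rw [Sieve.ofArrows, ← Presieve.isSheafFor_iff_generate, Presieve.isSheafFor_arrows_iff] at hsf
  obtain ⟨s, hs, -⟩ := hsf (fun _ => t) (fun _ _ Z a b _ => hcompat Z a b)
  exact ⟨s, hs (), fun s' hs' =>
    sections_ext G (fun _ : Unit => O K N) (fun _ => f) hcov s' s fun i => hs'.trans (hs i).symm⟩

end Groth.Agent.H61.FieldCoh
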