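import Groth.Agent.H61.FieldCoh.Transfer
import Groth.Agent.Lib.EtH1Gm.Class
import Mathlib.RingTheory.Unramified.Field
import Mathlib.CategoryTheory.Sites.EpiMono

/-!
# Effaceability on the small étale site of a field

Every class of positive degree dies on a finite separable extension; hence positive degree cohomology is
torsion, and vanishes for uniquely divisible sheaves.
-/

universe u

open CategoryTheory CategoryTheory.Limits CategoryTheory.Abelian AlgebraicGeometry Opposite

namespace Groth.Agent.H61.FieldCoh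

variable {K : Type u} [Field K]

/-- An object with a point receives a map from some `Spec L`, `L` finite separable. -/
theorem exists_field_point (V : (S K).Etale) (v : V.left) :
    ∃ (L : Type u) (_ : Field L) (_ : Algebra K L) (_ : FiniteDimensional K L) (_ : Algebra.IsSeparable K L)
      (_ : Algebra.Etale K L), Nonempty (O K L ⟶ V) := by
  obtain ⟨_, ⟨W, (hW : IsAffineOpen W), rfl⟩, hvW, -⟩ :=
    V.left.isBasis_affineOpens.exists_subset_of_mem_open (Set.mem_univ v) isOpen_univ
  let f : Spec Γ(V.left, W) ⟶ S K := hW.fromSpec ≫ V.hom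
  haveI : Etale V.hom := V.prop
  haveI : Etale f := inferInstance
  obtain ⟨φ, hφ⟩ := Spec.map_surjective f
  let C : Type u := Γ(V.left, W)
  letI : Algebra K C := φ.hom.toAlgebra
  haveI : Algebra.Etale K C := RingHom.etale_algebraMap.1 ((HasRingHomProperty.Spec_iff (P := @Etale)).1
    (show Etale (Spec.map φ) by rw [hφ]; infer_instance))
  let m : Ideal C := (hW.primeIdealOf ⟨v, hvW⟩).asIdeal
  obtain ⟨M, hM, -⟩ := Ideal.exists_le_maximal m (hW.primeIdealOf ⟨v, hvW⟩).isPrime.ne_top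
  letI : Field (C ⧸ M) := Ideal.Quotient.field M
  haveI : Algebra.FiniteType K (C ⧸ M) := Algebra.FiniteType.trans (S := C) inferInstance inferInstance
  haveI : Algebra.FormallyUnramified K (C ⧸ M) :=
    Algebra.FormallyUnramified.of_surjective (IsScalarTower.toAlgHom K C (C ⧸ M)) Ideal.Quotient.mk_surjective
  haveI : Algebra.IsSeparable K (C ⧸ M) := Algebra.FormallyUnramified.isSeparable K (C ⧸ M)
  haveI : FiniteDimensional K (C ⧸ M) := finite_of_finite_type_of_isJacobsonRing K (C ⧸ M)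
  haveI := etale_of_finite K (C ⧸ M)
  refine ⟨C ⧸ M, inferInstance, inferInstance, inferInstance, inferInstance, inferInstance,
    ⟨MorphismProperty.Over.homMk (Spec.map (CommRingCat.ofHom (Ideal.Quotient.mk M)) ≫ hW.fromSpec) ?_⟩⟩
  show (Spec.map (CommRingCat.ofHom (Ideal.Quotient.mk M)) ≫ hW.fromSpec) ≫ V.hom = 𝟙 _ ≫ jF K (C ⧸ M)
  rw [Category.id_comp, Category.assoc, show hW.fromSpec ≫ V.hom = Spec.map φ from hφ.symm, ← Spec.map_comp]
  rfl

open Groth.Agent.Lib.EtH1Gm.Class in
/-- Every class of positive degree dies on a finite separable extension. -/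
theorem exists_kill : ∀ (n : ℕ) (G : EtCoh.Ab (S K)) (e : EtCoh.H (S K) G (n + 1)),
    ∃ (L : Type u) (_ : Field L) (_ : Algebra K L) (_ : FiniteDimensional K L) (_ : Algebra.IsSeparable K L)
      (_ : Algebra.Etale K L), (Ext.mk₀ (aug (jF K L))).comp e (zero_add (n + 1)) = 0 := by
  intro n
  induction n with
  | zero =>
    intro G e
    obtain ⟨x, hx⟩ := Ext.covariant_sequence_exact₁ _ (seq_shortExact G) e (Ext.eq_zero_of_injective _)
      (zero_add 1)
    obtain ⟨ψ, rfl⟩ := (Ext.mk₀_bijective _ _).2 x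
    let q := Groth.Agent.Lib.EtJ.PullSec.elem (S K) (seq G).X₃ ψ
    have : Sheaf.IsLocallySurjective (seq G).g :=
      (Sheaf.isLocallySurjective_iff_epi' _ _).2 (seq_shortExact G).epi_g
    obtain ⟨V, g, ⟨r, hr⟩, v, -⟩ := (Groth.Agent.Lib.EtSite.Basic.mem_topology_iff _).1
      (Presheaf.imageSieve_mem (S K).smallEtaleTopology (seq G).g.hom q)
      (default : PrimeSpectrum K)
    obtain ⟨L, _, _, _, _, _, ⟨k⟩⟩ := exists_field_point V v
    refine ⟨L, ‹_›, ‹_›, ‹_›, ‹_›, ‹_›, ?_⟩
    have hl : aug (jF K L) ≫ ψ = (ev (jF K L) _).symm ((seq G).X₂.obj.map k.op r) ≫ (seq G).g := by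
      apply (ev (jF K L) _).injective
      rw [ev_aug, ev_comp, Equiv.apply_symm_apply]
      refine Eq.trans ?_ (ConcreteCategory.congr_hom ((seq G).g.hom.naturality k.op) r).symm
      show _ = (seq G).X₃.obj.map k.op ((seq G).g.hom.app (op V) r)
      rw [show (seq G).g.hom.app (op V) r = (seq G).X₃.obj.map g.op q from hr, map_map,
        (EtCore.topIsTerminal (S K)).hom_ext (k ≫ g) ((EtCore.topIsTerminal (S K)).from (O K L))]
    refine (congrArg (fun t => (Ext.mk₀ (aug (jF K L))).comp t (zero_add (0 + 1))) hx.symm).trans ?_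
    refine (Ext.comp_assoc (Ext.mk₀ (aug (jF K L))) (Ext.mk₀ ψ) (seq_shortExact G).extClass
      (zero_add 0) (zero_add 1) (by omega)).symm.trans ?_
    rw [Ext.mk₀_comp_mk₀]
    refine (congrArg (fun t => (Ext.mk₀ t).comp (seq_shortExact G).extClass (zero_add 1)) hl).trans ?_
    rw [← Ext.mk₀_comp_mk₀, Ext.comp_assoc_of_second_deg_zero, (seq_shortExact G).comp_extClass, Ext.comp_zero]
    rfl
  | succ n ih =>
    intro G e
    obtain ⟨x, hx⟩ := Ext.covariant_sequence_exact₁ _ (seq_shortExact G) e (Ext.eq_zero_of_injective _)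
      (n₀ := n + 1) rfl
    obtain ⟨L, _, _, _, _, _, hL⟩ := ih _ x
    refine ⟨L, ‹_›, ‹_›, ‹_›, ‹_›, ‹_›, ?_⟩
    refine (congrArg (fun t => (Ext.mk₀ (aug (jF K L))).comp t (zero_add (n + 1 + 1))) hx.symm).trans ?_
    refine (Ext.comp_assoc (Ext.mk₀ (aug (jF K L))) x (seq_shortExact G).extClass
      (zero_add (n + 1)) rfl (by omega)).symm.trans ?_
    exact (congrArg (fun t => Ext.comp t (seq_shortExact G).extClass rfl) hL).trans (Ext.zero_comp ..)

/-- Positive degree cohomology of a field is torsion. -/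
theorem isOfFinAddOrder {G : EtCoh.Ab (S K)} {i : ℕ} (hi : 0 < i) (e : EtCoh.H (S K) G i) :
    IsOfFinAddOrder e := by
  obtain ⟨n, rfl⟩ : ∃ n, i = n + 1 := ⟨i - 1, by omega⟩
  obtain ⟨L, _, _, _, _, _, hL⟩ := exists_kill n G e
  exact isOfFinAddOrder_iff_nsmul_eq_zero.2
    ⟨Module.finrank K L, Module.finrank_pos, finrank_nsmul_eq_zero K L hL⟩

/-- Uniquely divisible sheaves on a field have no higher cohomology. -/
theorem subsingleton_of_isIso_nsmul {G : EtCoh.Ab (S K)} (hdiv : ∀ n : ℕ, 0 < n → IsIso (n • 𝟙 G))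
    {i : ℕ} (hi : 0 < i) : Subsingleton (EtCoh.H (S K) G i) := by
  refine subsingleton_iff.2 fun a b => ?_
  suffices h : ∀ e : EtCoh.H (S K) G i, e = 0 by rw [h a, h b]
  intro e
  obtain ⟨n, hn, hne⟩ := isOfFinAddOrder_iff_nsmul_eq_zero.1 (isOfFinAddOrder hi e)
  haveI := hdiv n hn
  have h1 : e.comp (Ext.mk₀ (n • 𝟙 G)) (add_zero i) = n • e := by
    clear hne hn this
    induction n with
    | zero => rw [zero_smul, zero_smul, Ext.mk₀_zero, Ext.comp_zero]
    | succ n ih => rw [add_smul, one_smul, Ext.mk₀_add, Ext.comp_add, Ext.comp_mk₀_id, ih, add_smul, one_smul]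
  rw [hne] at h1
  have h2 : (e.comp (Ext.mk₀ (n • 𝟙 G)) (add_zero i)).comp (Ext.mk₀ (inv (n • 𝟙 G))) (add_zero i) = e := by
    rw [Ext.comp_assoc_of_second_deg_zero, Ext.mk₀_comp_mk₀, IsIso.hom_inv_id, Ext.comp_mk₀_id]
  rw [← h2, h1, Ext.zero_comp]

end Groth.Agent.H61.FieldCoh
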