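import Groth.Agent.H61.FieldCoh.Efface
import Mathlib.RingTheory.Artinian.Module
import Mathlib.RingTheory.Spectrum.Prime.Basic

/-!
# Field objects generate the small étale site of a field
-/

set_option autoImplicit false

universe u

open CategoryTheory CategoryTheory.Limits AlgebraicGeometry Opposite

namespace Groth.Agent.H61.FieldCoh

variable {K : Type u} [Field K]

/-- Every point of an object is hit by some `Spec L`. -/
theorem exists_field_point' (V : (S K).Etale) (v : V.left) :
    ∃ (L : Type u) (_ : Field L) (_ : Algebra K L) (_ : FiniteDimensional K L) (_ : Algebra.IsSeparable K L)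
      (_ : Algebra.Etale K L) (a : O K L ⟶ V) (w : (O K L).left), a.left.base w = v := by
  obtain ⟨_, ⟨W, (hW : IsAffineOpen W), rfl⟩, hvW, -⟩ :=
    V.left.isBasis_affineOpens.exists_subset_of_mem_open (Set.mem_univ v) isOpen_univ
  let f : Spec Γ(V.left, W) ⟶ S K := hW.fromSpec ≫ V.hom
  haveI : Etale V.hom := V.prop
  haveI : Etale f := inferInstance
  obtain ⟨φ, hφ⟩ := Spec.map_surjective f
  let C : Type u := Γ(V.left, W)
  letI : Algebra K C := φ.hom.toAlgebra
  haveI : Algebra.Etale K C := RingHom.etale_algebraMap.1 ((HasRingHomProperty.Spec_iff (P := @Etale)).1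
    (show Etale (Spec.map φ) by rw [hφ]; infer_instance))
  haveI : Module.Finite K C := Algebra.FormallyUnramified.finite_of_free (R := K) (S := C)
  haveI : IsArtinianRing C := IsArtinianRing.of_finite K C
  let P := hW.primeIdealOf ⟨v, hvW⟩
  haveI : P.asIdeal.IsMaximal := IsArtinianRing.isMaximal_of_isPrime P.asIdeal
  let M : Ideal C := P.asIdeal
  letI : Field (C ⧸ M) := Ideal.Quotient.field M
  haveI : Algebra.FormallyUnramified K (C ⧸ M) :=
    Algebra.FormallyUnramified.of_surjective (IsScalarTower.toAlgHom K C (C ⧸ M)) Ideal.Quotient.mk_surjective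
  haveI : FiniteDimensional K (C ⧸ M) :=
    Module.Finite.of_surjective (IsScalarTower.toAlgHom K C (C ⧸ M)).toLinearMap Ideal.Quotient.mk_surjective
  haveI : Algebra.IsSeparable K (C ⧸ M) := Algebra.FormallyUnramified.isSeparable K (C ⧸ M)
  haveI := etale_of_finite K (C ⧸ M)
  refine ⟨C ⧸ M, inferInstance, inferInstance, inferInstance, inferInstance, inferInstance,
    MorphismProperty.Over.homMk (Spec.map (CommRingCat.ofHom (Ideal.Quotient.mk M)) ≫ hW.fromSpec) ?_,
    (⟨⊥, Ideal.isPrime_bot⟩ : PrimeSpectrum (C ⧸ M)), ?_⟩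
  · show (Spec.map (CommRingCat.ofHom (Ideal.Quotient.mk M)) ≫ hW.fromSpec) ≫ V.hom = 𝟙 _ ≫ jF K (C ⧸ M)
    rw [Category.id_comp, Category.assoc, show hW.fromSpec ≫ V.hom = Spec.map φ from hφ.symm, ← Spec.map_comp]
    rfl
  · have hP : PrimeSpectrum.comap (Ideal.Quotient.mk M) (⟨⊥, Ideal.isPrime_bot⟩ : PrimeSpectrum (C ⧸ M)) = P :=
      PrimeSpectrum.ext (Ideal.mk_ker : RingHom.ker (Ideal.Quotient.mk M) = M)
    exact (congrArg hW.fromSpec.base hP).trans (hW.fromSpec_primeIdealOf ⟨v, hvW⟩)

/-- Sections agreeing on all field objects are equal. -/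
theorem ext_fields (G : EtCoh.Ab (S K)) {V : (S K).Etale} (s t : EtCoh.sect G V)
    (h : ∀ (L : Type u) [Field L] [Algebra K L] [FiniteDimensional K L] [Algebra.IsSeparable K L]
      [Algebra.Etale K L] (a : O K L ⟶ V), G.obj.map a.op s = G.obj.map a.op t) : s = t := by
  choose L h₁ h₂ h₃ h₄ h₅ a w hw using fun v : V.left => exists_field_point' V v
  letI := h₁
  letI := h₂
  letI := h₃
  letI := h₄
  letI := h₅
  exact sections_ext G (fun v => O K (L v)) a (fun v => ⟨v, w v, hw v⟩) s t fun v => h (L v) (a v)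

/-- Morphisms agreeing on field objects are equal. -/
theorem hom_ext_fields {G H : EtCoh.Ab (S K)} (a b : G ⟶ H)
    (h : ∀ (L : Type u) [Field L] [Algebra K L] [FiniteDimensional K L] [Algebra.IsSeparable K L]
      [Algebra.Etale K L] (s : EtCoh.sect G (O K L)), a.hom.app (op (O K L)) s = b.hom.app (op (O K L)) s) :
    a = b := by
  apply Sheaf.hom_ext
  ext V s
  induction V using Opposite.rec with
  | op V =>
  refine ext_fields H _ _ fun L _ _ _ _ _ g => ?_
  rw [← NatTrans.naturality_apply a.hom g.op s, ← NatTrans.naturality_apply b.hom g.op s]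
  exact h L _

variable {L M : Type u} [Field L] [Algebra K L] [Algebra.Etale K L]
  [Field M] [Algebra K M] [Algebra.Etale K M]

/-- Morphisms of field objects come from algebra maps. -/
theorem exists_homO (a : O K M ⟶ O K L) : ∃ φ : L →ₐ[K] M, homO φ = a := by
  let al : Spec (CommRingCat.of M) ⟶ Spec (CommRingCat.of L) := a.left
  obtain ⟨ψ, hψ⟩ := Spec.map_surjective al
  have h : Spec.map (CommRingCat.ofHom (algebraMap K L) ≫ ψ) =
      Spec.map (CommRingCat.ofHom (algebraMap K M)) := by
    rw [Spec.map_comp, hψ]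
    have h1 : al ≫ 𝟙 _ ≫ jF K L = 𝟙 _ ≫ jF K M := MorphismProperty.Over.w a
    rw [Category.id_comp, Category.id_comp] at h1
    exact h1
  refine ⟨{ ψ.hom with
    commutes' := fun x => ConcreteCategory.congr_hom (Spec.map_injective h) x }, ?_⟩
  exact MorphismProperty.Over.Hom.ext hψ

/-- Restriction between field objects is injective. -/
theorem map_homO_injective (G : EtCoh.Ab (S K)) (φ : L →ₐ[K] M) :
    Function.Injective (G.obj.map (homO φ).op) := fun s t h => by
  refine sections_ext G (fun _ : Unit => O K M) (fun _ => homO φ) (fun x => ⟨(), ?_⟩) s t fun _ => h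
  obtain ⟨p⟩ : Nonempty (PrimeSpectrum M) := inferInstance
  exact ⟨p, (Subsingleton.elim (α := PrimeSpectrum L) _ _)⟩

/-- A section of the target of an epimorphism lifts after a finite separable extension. -/
theorem exists_lift_fields {G H : EtCoh.Ab (S K)} (f : G ⟶ H) [Epi f] (c : EtCoh.sect H (O K L)) :
    ∃ (M : Type u) (_ : Field M) (_ : Algebra K M) (_ : FiniteDimensional K M) (_ : Algebra.IsSeparable K M)
      (_ : Algebra.Etale K M) (φ : L →ₐ[K] M) (r : EtCoh.sect G (O K M)),
      f.hom.app (op (O K M)) r = H.obj.map (homO φ).op c := by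
  have : Sheaf.IsLocallySurjective f := (Sheaf.isLocallySurjective_iff_epi' _ _).2 inferInstance
  obtain ⟨V, g, ⟨r, hr⟩, v, -⟩ := (Groth.Agent.Lib.EtSite.Basic.mem_topology_iff _).1
    (Presheaf.imageSieve_mem (S K).smallEtaleTopology f.hom c)
    (show (O K L).left from (⟨⊥, Ideal.isPrime_bot⟩ : PrimeSpectrum L))
  obtain ⟨M', _, _, _, _, _, a, -, -⟩ := exists_field_point' V v
  obtain ⟨φ, hφ⟩ := exists_homO (a ≫ g)
  refine ⟨M', ‹_›, ‹_›, ‹_›, ‹_›, ‹_›, φ, G.obj.map a.op r, ?_⟩
  rw [NatTrans.naturality_apply f.hom a.op r, hφ, ← map_map]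
  exact congrArg (H.obj.map a.op) hr

omit [Algebra.Etale K L] [Algebra.Etale K M] in
/-- Finitely many finite separable extensions lie in one finite Galois extension. -/
theorem exists_galois_receiving {ι : Type*} [Finite ι] (E : ι → Type u) [∀ i, Field (E i)]
    [∀ i, Algebra K (E i)] [∀ i, FiniteDimensional K (E i)] [∀ i, Algebra.IsSeparable K (E i)] :
    ∃ (N : Type u) (_ : Field N) (_ : Algebra K N) (_ : FiniteDimensional K N) (_ : IsGalois K N)
      (_ : Algebra.Etale K N), ∀ i, Nonempty (E i →ₐ[K] N) := by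
  let Ω := SeparableClosure K
  let φ : ∀ i, E i →ₐ[K] Ω := fun i => IsSepClosed.lift
  let F : IntermediateField K Ω := ⨆ i, (φ i).fieldRange
  haveI : ∀ i, FiniteDimensional K (φ i).fieldRange := fun i =>
    Module.Finite.of_surjective (φ i).rangeRestrict.toLinearMap (φ i).rangeRestrict_surjective
  haveI : FiniteDimensional K F := IntermediateField.finiteDimensional_iSup_of_finite
  let N := IntermediateField.normalClosure K F Ω
  haveI : Algebra.IsSeparable K N := Algebra.isSeparable_tower_bot_of_isSeparable K _ Ω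
  haveI : Normal K N := inferInstanceAs (Normal K (IntermediateField.normalClosure K F Ω))
  haveI : IsGalois K N := IsGalois.mk
  haveI : FiniteDimensional K N :=
    inferInstanceAs (FiniteDimensional K (IntermediateField.normalClosure K F Ω))
  refine ⟨N, inferInstance, inferInstance, inferInstance, inferInstance, etale_of_finite K N, fun i => ⟨?_⟩⟩
  exact (φ i).codRestrict N.toSubalgebra fun x =>
    F.le_normalClosure (le_iSup (fun j => (φ j).fieldRange) i ⟨x, rfl⟩)

end Groth.Agent.H61.FieldCoh
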