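import Groth.Agent.H61.FieldCoh.Fields
import Mathlib.GroupTheory.Finiteness
import Mathlib.GroupTheory.Torsion
import Mathlib.GroupTheory.FiniteAbelian.Basic

/-!
# Finite sheaves on the small étale site of a field, split by a finite extension

* `Fin N G`: `G(O N)` is finite and restriction `G(O N) → G(O M)` is onto for every `N →ₐ[K] M`.
* `Fin.of_hom`, `Fin.of_epi`, `Fin.kernel_nsmul`.
* `sub T`: the subsheaf of `F` generated by a group `T` of sections over `O N`; `fin_sub`.
-/

set_option autoImplicit false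

universe u

open CategoryTheory CategoryTheory.Limits AlgebraicGeometry Opposite

namespace Groth.Agent.H61.FieldCoh

variable {K : Type u} [Field K] {N : Type u} [Field N] [Algebra K N] [FiniteDimensional K N]
  [Algebra.IsSeparable K N] [Algebra.Etale K N]

variable (N) in
/-- `G` is finite and constant over `N`. -/
def Fin (G : EtCoh.Ab (S K)) : Prop :=
  Finite (EtCoh.sect G (O K N)) ∧
    ∀ (M : Type u) [Field M] [Algebra K M] [FiniteDimensional K M] [Algebra.IsSeparable K M]
      [Algebra.Etale K M] (e : N →ₐ[K] M), Function.Surjective (G.obj.map (homO e).op)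

theorem map_homO_comp (G : EtCoh.Ab (S K)) {L M M' : Type u} [CommRing L] [Algebra K L] [Algebra.Etale K L]
    [CommRing M] [Algebra K M] [Algebra.Etale K M] [CommRing M'] [Algebra K M'] [Algebra.Etale K M']
    (φ : L →ₐ[K] M) (ψ : M →ₐ[K] M') (s : EtCoh.sect G (O K L)) :
    G.obj.map (homO ψ).op (G.obj.map (homO φ).op s) = G.obj.map (homO (ψ.comp φ)).op s := by
  rw [map_map, homO_comp]

/-- Passing to a bigger extension. -/
theorem Fin.of_hom {G : EtCoh.Ab (S K)} (h : Fin N G) {N' : Type u} [Field N'] [Algebra K N']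
    [FiniteDimensional K N'] [Algebra.IsSeparable K N'] [Algebra.Etale K N'] (φ : N →ₐ[K] N') : Fin N' G := by
  refine ⟨?_, fun M _ _ _ _ _ e c => ?_⟩
  · haveI := h.1
    exact Finite.of_surjective _ (h.2 N' φ)
  · obtain ⟨t, rfl⟩ := h.2 M (e.comp φ) c
    exact ⟨G.obj.map (homO φ).op t, map_homO_comp G φ e t⟩

/-- Quotients. -/
theorem Fin.of_epi {G H : EtCoh.Ab (S K)} (f : G ⟶ H) [Epi f] (h : Fin N G) : Fin N H := by
  have key : ∀ (M : Type u) [Field M] [Algebra K M] [FiniteDimensional K M] [Algebra.IsSeparable K M]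
      [Algebra.Etale K M] (e : N →ₐ[K] M) (c : EtCoh.sect H (O K M)),
      ∃ t : EtCoh.sect G (O K N), H.obj.map (homO e).op (f.hom.app (op (O K N)) t) = c := by
    intro M _ _ _ _ _ e c
    obtain ⟨M', _, _, _, _, _, φ, r, hr⟩ := exists_lift_fields f c
    obtain ⟨t, ht⟩ := h.2 M' (φ.comp e) r
    refine ⟨t, map_homO_injective H φ ?_⟩
    rw [map_homO_comp, ← NatTrans.naturality_apply f.hom (homO (φ.comp e)).op t]
    exact (congrArg (f.hom.app (op (O K M'))) ht).trans hr
  refine ⟨?_, fun M _ _ _ _ _ e c => ?_⟩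
  · haveI := h.1
    refine Finite.of_surjective (f.hom.app (op (O K N))) fun c => ?_
    obtain ⟨t, ht⟩ := key N (AlgHom.id K N) c
    refine ⟨t, ?_⟩
    rw [homO_id, op_id, CategoryTheory.Functor.map_id, ConcreteCategory.id_apply] at ht
    exact ht
  · obtain ⟨t, ht⟩ := key M e c
    exact ⟨_, ht⟩

/-- A section killed by the next map comes from the mono. -/
theorem exists_sect_of_exact {C : ShortComplex (EtCoh.Ab (S K))} (hC : C.Exact) [Mono C.f]
    {L : Type u} [Field L] [Algebra K L] [Algebra.Etale K L] (t : EtCoh.sect C.X₂ (O K L))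
    (ht : C.g.hom.app (op (O K L)) t = 0) :
    ∃ r : EtCoh.sect C.X₁ (O K L), C.f.hom.app (op (O K L)) r = t := by
  let a : free (jF K L) ⟶ C.X₂ := (ev (jF K L) _).symm t
  have ha : a ≫ C.g = 0 := by
    apply (ev (jF K L) _).injective
    have h0 : ev (jF K L) C.X₃ 0 = 0 := by
      rw [← comp_zero (X := free (jF K L)) (f := a) (Z := C.X₃), ev_comp]
      rfl
    rw [ev_comp, Equiv.apply_symm_apply, h0]
    exact ht
  refine ⟨ev (jF K L) _ (hC.lift a ha), ?_⟩
  rw [← ev_comp, hC.lift_f, Equiv.apply_symm_apply]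

/-- `n • 𝟙` on sections. -/
theorem nsmul_id_app {X : Scheme.{u}} (G : EtCoh.Ab X) (n : ℕ) (V : X.Etale) (s : EtCoh.sect G V) :
    (n • 𝟙 G).hom.app (op V) s = n • s := by
  induction n with
  | zero => rw [zero_nsmul, zero_nsmul]; rfl
  | succ n ih => rw [succ_nsmul, succ_nsmul, ← ih]; rfl

/-- Monomorphisms are injective on sections over fields. -/
theorem injective_app_of_mono {G H : EtCoh.Ab (S K)} (f : G ⟶ H) [Mono f]
    {L : Type u} [Field L] [Algebra K L] [Algebra.Etale K L] :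
    Function.Injective (f.hom.app (op (O K L))) := fun s t h => by
  refine (ev (jF K L) G).symm.injective ((cancel_mono f).1 ((ev (jF K L) H).injective ?_))
  rw [ev_comp, ev_comp, Equiv.apply_symm_apply, Equiv.apply_symm_apply]
  exact h

/-- Kernels of multiplications. -/
theorem Fin.kernel_nsmul {G : EtCoh.Ab (S K)} (h : Fin N G) (n : ℕ) : Fin N (kernel (n • 𝟙 G)) := by
  refine ⟨?_, fun M _ _ _ _ _ e c => ?_⟩
  · haveI := h.1
    exact Finite.of_injective _ (injective_app_of_mono (kernel.ι (n • 𝟙 G)) (L := N))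
  · let C := ShortComplex.mk (kernel.ι (n • 𝟙 G)) (n • 𝟙 G) (kernel.condition _)
    obtain ⟨t, ht⟩ := h.2 M e (C.f.hom.app (op (O K M)) c)
    haveI : Mono C.f := inferInstanceAs (Mono (kernel.ι (n • 𝟙 G)))
    have hc : n • C.f.hom.app (op (O K M)) c = 0 := by
      rw [← nsmul_id_app, ← ConcreteCategory.comp_apply, ← NatTrans.comp_app,
        ← ObjectProperty.FullSubcategory.comp_hom, C.zero]
      rfl
    obtain ⟨r, hr⟩ := exists_sect_of_exact (C := C) (ShortComplex.exact_of_f_is_kernel _ (kernelIsKernel _))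
      (L := N) t (by
        show (n • 𝟙 G).hom.app (op (O K N)) t = 0
        rw [nsmul_id_app]
        apply map_homO_injective G e
        rw [map_nsmul, ht, map_zero]
        exact hc)
    refine ⟨r, injective_app_of_mono C.f ?_⟩
    rw [NatTrans.naturality_apply C.f.hom (homO e).op r, hr]
    exact ht

variable [IsGalois K N]

section Sub

variable (F : EtCoh.Ab (S K)) (T : AddSubgroup (EtCoh.sect F (O K N)))

/-- Sections which over fields containing `N` come from `T`. -/
def subMem (V : (S K).Etale) : AddSubgroup (EtCoh.sect F V) where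
  carrier := {s | ∀ (M : Type u) [Field M] [Algebra K M] [FiniteDimensional K M] [Algebra.IsSeparable K M]
    [Algebra.Etale K M] (e : N →ₐ[K] M) (a : O K M ⟶ V), ∃ t ∈ T, F.obj.map (homO e).op t = F.obj.map a.op s}
  zero_mem' := fun M _ _ _ _ _ e a => ⟨0, T.zero_mem, by rw [map_zero, map_zero]⟩
  add_mem' := fun {s t} hs ht M _ _ _ _ _ e a => by
    obtain ⟨x, hx, hxe⟩ := hs M e a
    obtain ⟨y, hy, hye⟩ := ht M e a
    exact ⟨x + y, T.add_mem hx hy, by rw [map_add, map_add, hxe, hye]⟩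
  neg_mem' := fun {s} hs M _ _ _ _ _ e a => by
    obtain ⟨x, hx, hxe⟩ := hs M e a
    exact ⟨-x, T.neg_mem hx, by rw [map_neg, map_neg, hxe]⟩

variable {F T}

theorem subMem_map {V W : (S K).Etale} (g : W ⟶ V) {s : EtCoh.sect F V} (hs : s ∈ subMem F T V) :
    F.obj.map g.op s ∈ subMem F T W := fun M _ _ _ _ _ e a => by
  obtain ⟨t, ht, hte⟩ := hs M e (a ≫ g)
  exact ⟨t, ht, by rw [hte, map_map]⟩

/-- Membership is local. -/
theorem subMem_local {V : (S K).Etale} (s : EtCoh.sect F V) (R : Sieve V)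
    (hR : R ∈ (S K).smallEtaleTopology V)
    (h : ∀ (W : (S K).Etale) (g : W ⟶ V), R g → F.obj.map g.op s ∈ subMem F T W) : s ∈ subMem F T V := by
  intro M _ _ _ _ _ e a
  obtain ⟨W, g, hg, w, -⟩ := (Groth.Agent.Lib.EtSite.Basic.mem_topology_iff _).1
    ((S K).smallEtaleTopology.pullback_stable a hR)
    (show (O K M).left from (⟨⊥, Ideal.isPrime_bot⟩ : PrimeSpectrum M))
  obtain ⟨M', _, _, _, _, _, b, -, -⟩ := exists_field_point' W w
  obtain ⟨φ, hφ⟩ := exists_homO (b ≫ g)
  obtain ⟨t, ht, hte⟩ := h W (g ≫ a) hg M' (φ.comp e) b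
  refine ⟨t, ht, map_homO_injective F φ ?_⟩
  rw [map_homO_comp, hte, hφ, map_map, map_map, Category.assoc]

variable (F T)

/-- The presheaf of `subMem`. -/
noncomputable def subPre : (S K).Etaleᵒᵖ ⥤ AddCommGrpCat.{u + 1} where
  obj V := AddCommGrpCat.of (subMem F T V.unop)
  map {V W} g := AddCommGrpCat.ofHom (((F.obj.map g).hom.comp (subMem F T V.unop).subtype).codRestrict
    (subMem F T W.unop) fun s => subMem_map g.unop s.2)
  map_id V := by
    ext s
    exact congrArg Subtype.val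
      (Subtype.ext (ConcreteCategory.congr_hom (F.obj.map_id V) s.1) :
        (⟨F.obj.map (𝟙 V) s.1, subMem_map (𝟙 V.unop) s.2⟩ : subMem F T V.unop) = s)
  map_comp {V W Z} g h := by
    ext s
    exact ConcreteCategory.congr_hom (F.obj.map_comp g h) s.1

theorem subPre_isSheaf : Presheaf.IsSheaf (S K).smallEtaleTopology (subPre F T) := by
  rw [Presheaf.isSheaf_iff_isSheaf_forget _ _ (forget AddCommGrpCat.{u + 1}), isSheaf_iff_isSheaf_of_type]
  intro V R hR x hx
  have hQ : Presieve.IsSheaf (S K).smallEtaleTopology (F.obj ⋙ forget AddCommGrpCat.{u + 1}) :=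
    (isSheaf_iff_isSheaf_of_type _ _).1
      ((sheafCompose (S K).smallEtaleTopology (forget AddCommGrpCat.{u + 1})).obj F).property
  let y : Presieve.FamilyOfElements (F.obj ⋙ forget AddCommGrpCat.{u + 1}) R.arrows :=
    fun W g hg => (x g hg).1
  have hy : y.Compatible := fun W₁ W₂ Z g₁ g₂ f₁ f₂ h₁ h₂ w => congrArg Subtype.val (hx g₁ g₂ h₁ h₂ w)
  obtain ⟨s, hs, huniq⟩ := hQ R hR y hy
  have hmem : s ∈ subMem F T V := subMem_local s R hR fun W g hg => by
    rw [show F.obj.map g.op s = (x g hg).1 from hs g hg]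
    exact (x g hg).2
  exact ⟨⟨s, hmem⟩, fun W g hg => Subtype.ext (hs g hg),
    fun s' hs' => Subtype.ext (huniq s'.1 fun W g hg => congrArg Subtype.val (hs' g hg))⟩

/-- The subsheaf generated by `T`. -/
noncomputable def sub : EtCoh.Ab (S K) := ⟨subPre F T, subPre_isSheaf F T⟩

/-- Its inclusion. -/
noncomputable def subι : sub F T ⟶ F :=
  ObjectProperty.homMk
    { app := fun V => AddCommGrpCat.ofHom (subMem F T V.unop).subtype
      naturality := fun V W g => by ext s; rfl }

instance subι_mono : Mono (subι F T) := by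
  refine ⟨fun {Z} a b h => hom_ext_fields a b fun L _ _ _ _ _ s => Subtype.ext ?_⟩
  exact ConcreteCategory.congr_hom (congrArg (fun m => m.hom.app (op (O K L))) h) s

variable {F T}

/-- Sections in the subsheaf. -/
theorem exists_subι {V : (S K).Etale} {s : EtCoh.sect F V} (h : s ∈ subMem F T V) :
    ∃ r : EtCoh.sect (sub F T) V, (subι F T).hom.app (op V) r = s := ⟨⟨s, h⟩, rfl⟩

theorem mem_subMem_self (hst : ∀ σ : N ≃ₐ[K] N, ∀ t ∈ T, F.obj.map (homO σ.toAlgHom).op t ∈ T)
    {t : EtCoh.sect F (O K N)} (ht : t ∈ T) : t ∈ subMem F T (O K N) := by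
  intro M _ _ _ _ _ e a
  obtain ⟨φ, rfl⟩ := exists_homO a
  obtain ⟨σ, hσ⟩ := exists_aut e φ
  refine ⟨_, hst σ t ht, ?_⟩
  rw [map_homO_comp, show e.comp σ.toAlgHom = φ from AlgHom.ext hσ]

/-- The subsheaf generated by a finite stable group is finite, split by `N`. -/
theorem fin_sub [Finite T] (hst : ∀ σ : N ≃ₐ[K] N, ∀ t ∈ T, F.obj.map (homO σ.toAlgHom).op t ∈ T) :
    Fin N (sub F T) := by
  refine ⟨?_, fun M _ _ _ _ _ e c => ?_⟩
  · refine Finite.of_injective (β := T) (fun s => ⟨s.1, ?_⟩) fun s t h =>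
      Subtype.ext (congrArg (fun z : T => z.1) h)
    obtain ⟨t, ht, hte⟩ := s.2 N (AlgHom.id K N) (𝟙 _)
    rw [homO_id] at hte
    exact (map_homO_injective F (AlgHom.id K N) (by rw [homO_id]; exact hte) : t = s.1) ▸ ht
  · obtain ⟨t, ht, hte⟩ := c.2 M e (𝟙 _)
    refine ⟨⟨t, mem_subMem_self hst ht⟩, Subtype.ext (hte.trans ?_)⟩
    exact ConcreteCategory.congr_hom (F.obj.map_id (op (O K M))) c.1

end Sub

/-- Sections of a torsion sheaf over a field object are torsion. -/
theorem isOfFinAddOrder_sect {F : EtCoh.Ab (S K)} (hF : EtCoh.IsTorsion F)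
    {L : Type u} [Field L] [Algebra K L] [Algebra.Etale K L] (s : EtCoh.sect F (O K L)) :
    IsOfFinAddOrder s := by
  obtain ⟨V, g, ⟨v, -⟩, hg⟩ := hF (O K L) s (⟨⊥, Ideal.isPrime_bot⟩ : PrimeSpectrum L)
  obtain ⟨M, _, _, _, _, _, b, -, -⟩ := exists_field_point' V v
  obtain ⟨φ, hφ⟩ := exists_homO (b ≫ g)
  obtain ⟨n, hn, hn0⟩ := isOfFinAddOrder_iff_nsmul_eq_zero.1 hg
  refine isOfFinAddOrder_iff_nsmul_eq_zero.2 ⟨n, hn, map_homO_injective F φ ?_⟩
  rw [map_nsmul, hφ, ← map_map, ← map_nsmul, hn0, map_zero, map_zero]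

/-- Finitely many sections over `N` lie in a finite Galois stable group. -/
theorem exists_stable {F : EtCoh.Ab (S K)} (hF : EtCoh.IsTorsion F) {A : Set (EtCoh.sect F (O K N))}
    (hA : A.Finite) : ∃ T : AddSubgroup (EtCoh.sect F (O K N)), A ⊆ T ∧ Finite T ∧
      ∀ σ : N ≃ₐ[K] N, ∀ t ∈ T, F.obj.map (homO σ.toAlgHom).op t ∈ T := by
  let B : Set (EtCoh.sect F (O K N)) := ⋃ σ : N ≃ₐ[K] N, F.obj.map (homO σ.toAlgHom).op '' A
  have hB : B.Finite := Set.finite_iUnion fun σ => hA.image _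
  refine ⟨AddSubgroup.closure B, fun a ha => AddSubgroup.subset_closure (Set.mem_iUnion.2
    ⟨AlgEquiv.refl, a, ha, ?_⟩), ?_, fun σ t ht => ?_⟩
  · rw [show (AlgEquiv.refl : N ≃ₐ[K] N).toAlgHom = AlgHom.id K N from rfl, homO_id, op_id,
      CategoryTheory.Functor.map_id, ConcreteCategory.id_apply]
  · haveI : Finite B := hB
    haveI : AddGroup.FG (AddSubgroup.closure B) := AddGroup.closure_finite_fg B
    exact AddCommGroup.finite_of_fg_isAddTorsion _ fun t =>
      AddSubmonoid.isOfFinAddOrder_coe.1 (isOfFinAddOrder_sect hF (t : EtCoh.sect F (O K N)))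
  · induction ht using AddSubgroup.closure_induction with
    | mem x hx =>
      obtain ⟨τ, a, ha, rfl⟩ := Set.mem_iUnion.1 hx
      exact AddSubgroup.subset_closure (Set.mem_iUnion.2 ⟨τ.trans σ, a, ha,
        (map_homO_comp F τ.toAlgHom σ.toAlgHom a).symm⟩)
    | zero => rw [map_zero]; exact zero_mem _
    | add x y _ _ hx hy => rw [map_add]; exact add_mem hx hy
    | neg x _ hx => rw [map_neg]; exact neg_mem hx

end Groth.Agent.H61.FieldCoh
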