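import Groth.Agent.Lib.EtJ.MayerVietoris

/-!
# The free sheaf on an étale morphism

For `j : U ⟶ X` étale, `free j = j_! ℤ` corepresents sections over `U`, and a class in `H^n(X, G)` pulls
back to zero on `U` exactly when it is killed by the augmentation `free j ⟶ ℤ`.
-/

universe u

open CategoryTheory CategoryTheory.Limits CategoryTheory.Abelian AlgebraicGeometry Opposite

namespace Groth.Agent.H61.FieldCoh

open Groth.Agent.Lib.EtJ

variable {U X : Scheme.{u}} (j : U ⟶ X) [Etale j]

/-- `U` as an object of the small étale site of `X`. -/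
noncomputable def obj : X.Etale := (EtShriek.compEtale j).obj (EtCoh.top U)

/-- `j_!` is left adjoint to `j⁻¹`. -/
noncomputable def adjP : EtShriek.extZero j ⊣ EtCoh.pull j :=
  (EtShriek.extZeroAdj j).ofNatIsoRight (Basic.pullIsoRestr j).symm

/-- The sheaf corepresenting sections over `U`. -/
noncomputable def free : EtCoh.Ab X := (EtShriek.extZero j).obj (EtCoh.const U ℤ)

/-- Maps out of `free j`. -/
noncomputable def hom (G : EtCoh.Ab X) :
    (free j ⟶ G) ≃ (EtCoh.const U ℤ ⟶ (EtCoh.pull j).obj G) :=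
  (adjP j).homEquiv (EtCoh.const U ℤ) G

/-- The universal map. -/
noncomputable def unit : EtCoh.const U ℤ ⟶ (EtCoh.pull j).obj (free j) :=
  (adjP j).unit.app (EtCoh.const U ℤ)

theorem hom_eq {G : EtCoh.Ab X} (a : free j ⟶ G) :
    hom j G a = unit j ≫ (EtCoh.pull j).map a :=
  (adjP j).homEquiv_unit _ _ a

theorem hom_comp {G G' : EtCoh.Ab X} (a : free j ⟶ G) (m : G ⟶ G') :
    hom j G' (a ≫ m) = hom j G a ≫ (EtCoh.pull j).map m :=
  (adjP j).homEquiv_naturality_right a m

/-- Sections of `j⁻¹ G` over `U` are sections of `G` over `U`. -/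
noncomputable def restrTop (G : EtCoh.Ab X) :
    EtCoh.sect ((EtCoh.pull j).obj G) (EtCoh.top U) →+ EtCoh.sect G (obj j) :=
  (((Basic.pullIsoRestr j).app G).hom.hom.app (op (EtCoh.top U))).hom

theorem restrTop_bijective (G : EtCoh.Ab X) : Function.Bijective (restrTop j G) := by
  have : IsIso (((Basic.pullIsoRestr j).app G).hom.hom.app (op (EtCoh.top U))) :=
    inferInstanceAs (IsIso (((sheafSections _ AddCommGrpCat.{u + 1}).obj (op (EtCoh.top U))).map
      ((Basic.pullIsoRestr j).app G).hom))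
  exact ConcreteCategory.bijective_of_isIso (((Basic.pullIsoRestr j).app G).hom.hom.app (op (EtCoh.top U)))

theorem restrTop_natural {G G' : EtCoh.Ab X} (m : G ⟶ G')
    (s : EtCoh.sect ((EtCoh.pull j).obj G) (EtCoh.top U)) :
    restrTop j G' (((EtCoh.pull j).map m).hom.app (op (EtCoh.top U)) s) =
      m.hom.app (op (obj j)) (restrTop j G s) :=
  ConcreteCategory.congr_hom
    (congrArg (fun t => t.hom.app (op (EtCoh.top U))) ((Basic.pullIsoRestr j).hom.naturality m)) s

theorem restrTop_pullSec (G : EtCoh.Ab X) (s : EtCoh.sect G (EtCoh.top X)) :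
    restrTop j G (PullSec.pullSec j (EtCoh.top X) (EtCore.bcTopIsTerminal j) G s) =
      G.obj.map ((EtCore.topIsTerminal X).from (obj j)).op s := by
  let h0 := (EtCore.bcTopIsTerminal j).from (EtCoh.top U)
  have h : (EtCoh.pullPushAdj j).unit.app G ≫
      (EtCoh.push j).map ((Basic.pullIsoRestr j).hom.app G) = (Basic.restrPushAdj j).unit.app G :=
    Adjunction.unit_leftAdjointUniq_hom_app (EtCoh.pullPushAdj j) (Basic.restrPushAdj j) G
  have h1 := ConcreteCategory.congr_hom (congrArg (fun m => m.hom.app (op (EtCoh.top X))) h) s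
  have h2 := ConcreteCategory.congr_hom
    (((Basic.pullIsoRestr j).hom.app G).hom.naturality h0.op)
    (((EtCoh.pullPushAdj j).unit.app G).hom.app (op (EtCoh.top X)) s)
  refine h2.trans ?_
  refine (congrArg (((EtShriek.restrAlong j).obj G).obj.map h0.op) h1).trans ?_
  have h3 : ((Basic.restrPushAdj j).unit.app G).hom.app (op (EtCoh.top X)) =
      G.obj.map ((Basic.compEtaleAdj j).counit.app (EtCoh.top X)).op := by
    simp [Basic.restrPushAdj]
  rw [h3]
  refine (ConcreteCategory.congr_hom (G.obj.map_comp ((Basic.compEtaleAdj j).counit.app (EtCoh.top X)).op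
    ((EtShriek.compEtale j).map h0).op) s).symm.trans ?_
  rw [← op_comp, (EtCore.topIsTerminal X).hom_ext
    ((EtShriek.compEtale j).map h0 ≫ (Basic.compEtaleAdj j).counit.app (EtCoh.top X))
    ((EtCore.topIsTerminal X).from (obj j))]
  rfl

/-- `free j ⟶ G` is the set of sections of `G` over `U`. -/
noncomputable def ev (G : EtCoh.Ab X) : (free j ⟶ G) ≃ EtCoh.sect G (obj j) :=
  ((hom j G).trans (PullSec.elem U _).toEquiv).trans (Equiv.ofBijective _ (restrTop_bijective j G))

theorem ev_apply {G : EtCoh.Ab X} (a : free j ⟶ G) :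
    ev j G a = restrTop j G (PullSec.elem U _ (hom j G a)) := rfl

theorem ev_comp {G G' : EtCoh.Ab X} (a : free j ⟶ G) (m : G ⟶ G') :
    ev j G' (a ≫ m) = m.hom.app (op (obj j)) (ev j G a) := by
  rw [ev_apply, ev_apply, hom_comp, PullSec.elem_comp, restrTop_natural]

/-- The augmentation `free j ⟶ ℤ`. -/
noncomputable def aug : free j ⟶ EtCoh.const X ℤ :=
  (hom j _).symm (EtCore.pullConst j ℤ).inv

theorem hom_aug : hom j _ (aug j) = (EtCore.pullConst j ℤ).inv := Equiv.apply_symm_apply _ _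

theorem ev_aug {G : EtCoh.Ab X} (φ : EtCoh.const X ℤ ⟶ G) :
    ev j G (aug j ≫ φ) =
      G.obj.map ((EtCore.topIsTerminal X).from (obj j)).op (PullSec.elem X G φ) := by
  rw [ev_apply, hom_comp, hom_aug, PullSec.elem_pull, restrTop_pullSec]

/-- Cohomology of the restriction as `Ext` on `X`. -/
noncomputable def Φ (G : EtCoh.Ab X) (n : ℕ) :
    Ext.{u + 1} (free j) G n ≃+ EtCoh.H U ((EtCoh.pull j).obj G) n :=
  ExtAdj.extTrEquiv (EtCoh.pull j) (unit j)
    (fun Y => by
      exact (funext fun f : free j ⟶ Y => (hom_eq j f)) ▸ (hom j Y).bijective) G n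

/-- A class pulls back to zero on `U` iff the augmentation kills it. -/
theorem Hpull_eq_zero_iff [PreservesFiniteLimits (EtCoh.pull j)] (G : EtCoh.Ab X) (n : ℕ) (e : EtCoh.H X G n) :
    EtCore.Hpull j G n e = 0 ↔ (Ext.mk₀ (aug j)).comp e (zero_add n) = 0 := by
  have h : EtCore.Hpull j G n e = Φ j G n ((Ext.mk₀ (aug j)).comp e (zero_add n)) := by
    refine Eq.trans ?_ (MVAlg.extTr_mk₀_comp (EtCoh.pull j) (unit j) (aug j) e).symm
    rw [← hom_eq, hom_aug]
    rfl
  rw [h, AddEquiv.map_eq_zero_iff]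

/-- The map of free sheaves attached to a morphism of objects. -/
noncomputable def res {U' : Scheme.{u}} (j' : U' ⟶ X) [Etale j'] (k : obj j' ⟶ obj j) : free j' ⟶ free j :=
  (ev j' _).symm ((free j).obj.map k.op (ev j _ (𝟙 (free j))))

theorem ev_res {U' : Scheme.{u}} (j' : U' ⟶ X) [Etale j'] (k : obj j' ⟶ obj j) {G : EtCoh.Ab X}
    (a : free j ⟶ G) : ev j' G (res j j' k ≫ a) = G.obj.map k.op (ev j G a) := by
  rw [ev_comp, res, Equiv.apply_symm_apply]
  refine (ConcreteCategory.congr_hom (a.hom.naturality k.op) _).trans ?_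
  exact congrArg (G.obj.map k.op)
    ((ev_comp j (𝟙 (free j)) a).symm.trans (congrArg (ev j G) (Category.id_comp a)))

theorem res_aug {U' : Scheme.{u}} (j' : U' ⟶ X) [Etale j'] (k : obj j' ⟶ obj j) :
    res j j' k ≫ aug j = aug j' := by
  apply (ev j' _).injective
  rw [ev_res, ← Category.comp_id (aug j), ← Category.comp_id (aug j'), ev_aug, ev_aug,
    ← ConcreteCategory.comp_apply, ← Functor.map_comp, ← op_comp,
    (EtCore.topIsTerminal X).hom_ext (k ≫ (EtCore.topIsTerminal X).from (obj j))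
      ((EtCore.topIsTerminal X).from (obj j'))]

/-- Vanishing passes to finer objects. -/
theorem mk₀_aug_comp_eq_zero {U' : Scheme.{u}} (j' : U' ⟶ X) [Etale j'] (k : obj j' ⟶ obj j) {G : EtCoh.Ab X}
    {n : ℕ} {e : EtCoh.H X G n} (h : (Ext.mk₀ (aug j)).comp e (zero_add n) = 0) :
    (Ext.mk₀ (aug j')).comp e (zero_add n) = 0 := by
  rw [← res_aug j j' k, ← Ext.mk₀_comp_mk₀,
    Ext.comp_assoc_of_second_deg_zero, h, Ext.comp_zero]

end Groth.Agent.H61.FieldCoh
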