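import Groth.Agent.H61.FieldCoh.Cyclic
import Groth.Agent.H61.FieldCoh.Devissage
import Groth.Agent.Lib.EtH1Gm.HofPush
import Mathlib.RingTheory.Norm.Transitivity

/-!
# Brauer classes split by a cyclic extension with surjective norm vanish
-/

set_option autoImplicit false

universe u

open CategoryTheory CategoryTheory.Limits CategoryTheory.Abelian AlgebraicGeometry Opposite

namespace Groth.Agent.H61.FieldCoh

open Groth.Agent.Lib.EtJ

variable {L : Type u} [Field L]

/-- Units of a ring as sections of `G_m` over any object whose scheme is its spectrum. -/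
noncomputable def gmUnit (R : Type u) [CommRing R] :
    Additive Rˣ →+ (EtCoh.ΓUnits.{u}.obj (op (Spec (CommRingCat.of R)))) :=
  AddMonoidHom.mk' (fun a => ULift.up (Additive.ofMul
      (Units.map (Scheme.ΓSpecIso (CommRingCat.of R)).inv.hom.toMonoidHom a.toMul)))
    (fun a b => congrArg ULift.up (congrArg Additive.ofMul
      (map_mul (Units.map (Scheme.ΓSpecIso (CommRingCat.of R)).inv.hom.toMonoidHom) a.toMul b.toMul)))

theorem gmUnit_map {R R' : Type u} [CommRing R] [CommRing R'] (φ : R →+* R') (u : Rˣ) :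
    EtCoh.ΓUnits.{u}.map (Spec.map (CommRingCat.ofHom φ)).op (gmUnit R (Additive.ofMul u)) =
      gmUnit R' (Additive.ofMul (Units.map φ.toMonoidHom u)) := by
  refine congrArg ULift.up (congrArg Additive.ofMul (Units.ext ?_))
  exact (ConcreteCategory.congr_hom (Scheme.ΓSpecIso_inv_naturality (CommRingCat.ofHom φ)) (u : R)).symm

theorem gmUnit_surjective (R : Type u) [CommRing R] : Function.Surjective (gmUnit R) := fun s => by
  refine ⟨Additive.ofMul (Units.map (Scheme.ΓSpecIso (CommRingCat.of R)).hom.hom.toMonoidHom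
    s.down.toMul), ?_⟩
  refine congrArg ULift.up (congrArg Additive.ofMul (Units.ext ?_))
  exact ConcreteCategory.congr_hom (Scheme.ΓSpecIso (CommRingCat.of R)).hom_inv_id _

variable {M : Type u} [Field M] [Algebra L M] [FiniteDimensional L M] [IsGalois L M] [Algebra.Etale L M]

/-- Norm surjectivity gives surjectivity of the trace of `G_m` on global sections. -/
theorem ν_surjective (hN : ∀ c : L, c ≠ 0 → ∃ y : M, Algebra.norm L y = c) :
    Function.Surjective ((ν (M := M) (EtCoh.Gm (S L))).hom.app (op (EtCoh.top (S L)))) := by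
  intro s
  obtain ⟨c, hc⟩ := gmUnit_surjective L s
  obtain ⟨y, hy⟩ := hN (c.toMul : L) c.toMul.ne_zero
  have hy0 : y ≠ 0 := fun h => c.toMul.ne_zero (by rw [← hy, h, Algebra.norm_zero])
  let G := EtCoh.Gm (S L)
  let m : EtCoh.sect G (O L M) := gmUnit M (Additive.ofMul (Units.mk0 y hy0))
  let top := (EtCore.topIsTerminal (S L)).from (O L M)
  refine ⟨G.obj.map (q M (EtCoh.top (S L))).op m, ?_⟩
  refine sections_ext G (fun _ : Unit => O L M) (fun _ => top) (fun x => surjective_to_top _ x) _ _ fun _ => ?_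
  refine (NatTrans.naturality_apply (ν (M := M) G).hom top.op _).symm.trans ?_
  have hq : ((P (jF L M)).obj G).obj.map top.op (G.obj.map (q M (EtCoh.top (S L))).op m) =
      G.obj.map (q M (O L M)).op m := by
    show G.obj.map ((EtShriek.compEtale (jF L M)).map ((EtCoh.bc (jF L M)).map top)).op
      (G.obj.map (q M (EtCoh.top (S L))).op m) = _
    rw [map_map, q_natural]
  refine (congrArg ((ν (M := M) G).hom.app (op (O L M))) hq).trans ?_
  refine (ν_app G (AlgHom.id L M) _).trans ?_
  have hcoord : ∀ τ : M ≃ₐ[L] M, coord G ((AlgHom.id L M).comp τ.toAlgHom) (G.obj.map (q M (O L M)).op m) =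
      gmUnit M (Additive.ofMul (Units.map τ.toAlgHom.toRingHom.toMonoidHom (Units.mk0 y hy0))) := fun τ => by
    rw [coord_map]
    exact gmUnit_map τ.toAlgHom.toRingHom (Units.mk0 y hy0)
  refine (Finset.sum_congr rfl fun τ _ => hcoord τ).trans ?_
  refine (map_sum (gmUnit M) _ _).symm.trans ?_
  rw [← hc]
  have htop : top.left = jF L M := by
    have h : top.left ≫ 𝟙 _ = 𝟙 _ ≫ jF L M := MorphismProperty.Over.w top
    exact (Category.comp_id _).symm.trans (h.trans (Category.id_comp _))
  refine Eq.trans ?_ (congrArg (fun t : Spec (CommRingCat.of M) ⟶ S L =>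
    EtCoh.ΓUnits.{u}.map t.op (gmUnit L c)) htop).symm
  refine Eq.trans (congrArg (gmUnit M) ?_) (gmUnit_map (algebraMap L M) c.toMul).symm
  rw [← ofMul_prod]
  refine congrArg Additive.ofMul (Units.ext ?_)
  rw [Units.coe_prod]
  exact ((Algebra.norm_eq_prod_automorphisms L y).symm.trans (congrArg (algebraMap L M) hy))

/-- Hilbert 90 for `P G_m`. -/
theorem subsingleton_H1_P : Subsingleton (EtCoh.H (S L) ((P (jF L M)).obj (EtCoh.Gm (S L))) 1) := by
  let e : (EtShriek.restrAlong (jF L M)).obj (EtCoh.Gm (S L)) ≅ EtCoh.Gm (S M) :=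
    (sheafToPresheaf _ _).preimageIso (NatIso.ofComponents (fun V => Iso.refl _) (fun g => by rfl))
  obtain ⟨f⟩ := PushInt.nonempty_Hequiv (jF L M) ((EtShriek.restrAlong (jF L M)).obj (EtCoh.Gm (S L))) 1
  haveI : Subsingleton (EtCoh.H (S M) ((EtShriek.restrAlong (jF L M)).obj (EtCoh.Gm (S L))) 1) := by
    haveI : Subsingleton ↑((EtCoh.HF (S M) 1).obj (EtCoh.Gm (S M))) :=
      Groth.Agent.Lib.EtH1Gm.HofPush.subsingleton_H1_field (K := M)
    exact Equiv.subsingleton (((EtCoh.HF (S M) 1).mapIso e).addCommGroupIsoToAddEquiv.toEquiv)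
  exact Equiv.subsingleton f.toEquiv

/-- A Brauer class split by a cyclic extension with surjective norm is zero. -/
theorem gm_eq_zero_of_cyclic {σ : M ≃ₐ[L] M} (hσ : ∀ τ : M ≃ₐ[L] M, τ ∈ Subgroup.zpowers σ)
    (hN : ∀ c : L, c ≠ 0 → ∃ y : M, Algebra.norm L y = c) (x : EtCoh.H (S L) (EtCoh.Gm (S L)) 2)
    (hx : (Ext.mk₀ (aug (jF L M))).comp x (zero_add 2) = 0) : x = 0 :=
  eq_zero_of_cyclic (EtCoh.Gm (S L)) hσ subsingleton_H1_P (ν_surjective hN) x hx

end Groth.Agent.H61.FieldCoh
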