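import Groth.Agent.H61.FieldCoh.Descent
import Mathlib.FieldTheory.PrimitiveElement
import Mathlib.FieldTheory.IsSepClosed
import Mathlib.FieldTheory.SeparableClosure
import Mathlib.FieldTheory.Normal.Closure

/-!
# Transfer for a finite separable field extension

A class in the cohomology of `Spec K` which dies on `Spec L` is killed by `[L : K]`.
-/

universe u

open CategoryTheory CategoryTheory.Limits CategoryTheory.Abelian AlgebraicGeometry Opposite

namespace Groth.Agent.H61.FieldCoh

variable (K : Type u) [Field K] (L : Type u) [Field L] [Algebra K L] [FiniteDimensional K L]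
  [Algebra.IsSeparable K L]

/-- A Galois extension receiving `[L : K]` embeddings of `L`. -/
theorem exists_galois : ∃ (N : Type u) (_ : Field N) (_ : Algebra K N) (_ : FiniteDimensional K N)
    (_ : IsGalois K N), Nat.card (L →ₐ[K] N) = Module.finrank K L := by
  let Ω := SeparableClosure K
  haveI : Normal K (IntermediateField.normalClosure K L Ω) := inferInstance
  haveI : Algebra.IsSeparable K (IntermediateField.normalClosure K L Ω) :=
    Algebra.isSeparable_tower_bot_of_isSeparable K _ Ω
  let N := IntermediateField.normalClosure K L Ω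
  haveI : IsGalois K N := IsGalois.mk
  haveI : FiniteDimensional K N := inferInstanceAs (FiniteDimensional K (IntermediateField.normalClosure K L Ω))
  refine ⟨N, inferInstance, inferInstance, inferInstance, inferInstance, ?_⟩
  rw [← AlgHom.card_of_splits K L Ω (fun x => IsSepClosed.splits_codomain _
    (Algebra.IsSeparable.isSeparable K x)), ← Nat.card_eq_fintype_card]
  refine Nat.card_eq_of_bijective (fun φ => N.val.comp φ) ⟨fun φ ψ h => ?_, fun φ => ?_⟩
  · exact AlgHom.ext fun x => N.val.toRingHom.injective (DFunLike.congr_fun h x)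
  · exact ⟨φ.codRestrict N.toSubalgebra fun x => φ.fieldRange_le_normalClosure ⟨x, rfl⟩,
      AlgHom.ext fun x => rfl⟩

variable [Algebra.Etale K L]

/-- The transfer. -/
theorem exists_transfer : ∃ tr : EtCoh.const (S K) ℤ ⟶ free (jF K L),
    tr ≫ aug (jF K L) = Module.finrank K L • 𝟙 (EtCoh.const (S K) ℤ) := by
  obtain ⟨N, _, _, _, _, hcard⟩ := exists_galois K L
  haveI := etale_of_finite K N
  haveI : Finite (L →ₐ[K] N) := Finite.of_fintype _
  let : Fintype (L →ₐ[K] N) := Fintype.ofFinite _
  let u₀ : EtCoh.sect (free (jF K L)) (O K L) := ev (jF K L) _ (𝟙 (free (jF K L)))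
  let t : EtCoh.sect (free (jF K L)) (O K N) :=
    ∑ τ : L →ₐ[K] N, (free (jF K L)).obj.map (homO τ).op u₀
  have ht : ∀ σ : N ≃ₐ[K] N, (free (jF K L)).obj.map (homO σ.toAlgHom).op t = t := by
    intro σ
    rw [map_sum]
    refine Finset.sum_equiv (AlgEquiv.arrowCongr (AlgEquiv.refl (R := K) (A₁ := L)) σ) (by simp) fun τ _ => ?_
    rw [map_map, homO_comp]
    rfl
  obtain ⟨s, hs, -⟩ := existsUnique_descend (free (jF K L)) t ht
  refine ⟨(Groth.Agent.Lib.EtJ.PullSec.elem (S K) _).symm s, ?_⟩
  apply (Groth.Agent.Lib.EtJ.PullSec.elem (S K) _).injective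
  rw [Groth.Agent.Lib.EtJ.PullSec.elem_comp, AddEquiv.apply_symm_apply, map_nsmul]
  refine sections_ext _ (fun _ : Unit => O K N) (fun _ => (EtCore.topIsTerminal (S K)).from (O K N))
    (fun x => surjective_to_top _ x) _ _ fun _ => ?_
  rw [map_nsmul]
  refine (ConcreteCategory.congr_hom ((aug (jF K L)).hom.naturality
    ((EtCore.topIsTerminal (S K)).from (O K N)).op) s).symm.trans ?_
  show (aug (jF K L)).hom.app (op (O K N))
    ((free (jF K L)).obj.map ((EtCore.topIsTerminal (S K)).from (O K N)).op s) = _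
  rw [hs, map_sum]
  have key : ∀ τ : L →ₐ[K] N, (aug (jF K L)).hom.app (op (O K N))
      ((free (jF K L)).obj.map (homO τ).op u₀) =
      (EtCoh.const (S K) ℤ).obj.map ((EtCore.topIsTerminal (S K)).from (O K N)).op
        (Groth.Agent.Lib.EtJ.PullSec.elem (S K) _ (𝟙 (EtCoh.const (S K) ℤ))) := by
    intro τ
    refine (ConcreteCategory.congr_hom ((aug (jF K L)).hom.naturality (homO τ).op) u₀).trans ?_
    show (EtCoh.const (S K) ℤ).obj.map (homO τ).op ((aug (jF K L)).hom.app (op (O K L)) u₀) = _
    rw [← ev_comp, Category.id_comp, ← Category.comp_id (aug (jF K L)), ev_aug, map_map,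
      (EtCore.topIsTerminal (S K)).hom_ext (homO τ ≫ (EtCore.topIsTerminal (S K)).from (O K L))
        ((EtCore.topIsTerminal (S K)).from (O K N))]
  rw [Finset.sum_congr rfl fun τ _ => key τ, Finset.sum_const, Finset.card_univ,
    ← Nat.card_eq_fintype_card, hcard]

/-- Multiplication by `n` through `n • 𝟙`. -/
theorem mk₀_nsmul_comp {X : Scheme.{u}} {A G : EtCoh.Ab X} {q : ℕ} (N : ℕ) (y : Ext.{u + 1} A G q) :
    (Ext.mk₀ (N • 𝟙 A)).comp y (zero_add q) = N • y := by
  induction N with
  | zero => rw [zero_smul, zero_smul, Ext.mk₀_zero, Ext.zero_comp]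
  | succ N ih => rw [add_smul, one_smul, Ext.mk₀_add, Ext.add_comp, Ext.mk₀_id_comp, ih, add_smul, one_smul]

/-- A class killed on `Spec L` is killed by the degree. -/
theorem finrank_nsmul_eq_zero {G : EtCoh.Ab (S K)} {n : ℕ} {e : EtCoh.H (S K) G n}
    (h : (Ext.mk₀ (aug (jF K L))).comp e (zero_add n) = 0) : Module.finrank K L • e = 0 := by
  obtain ⟨tr, htr⟩ := exists_transfer K L
  rw [← mk₀_nsmul_comp, ← htr, ← Ext.mk₀_comp_mk₀, Ext.comp_assoc_of_second_deg_zero, h, Ext.comp_zero]

end Groth.Agent.H61.FieldCoh
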